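import Mathlib

/-!
Helper lemmas for S2276: conjugating one nontrivial `p`-element of `A_n` so that the product with
another is not a `p`-element and the two generate a nonsolvable group.
-/

set_option linter.style.haveILetI false
set_option linter.unusedSectionVars false

namespace Cfsg.Agent.H28.AltBS

open Equiv Equiv.Perm Subgroup Function
open scoped commutatorElement

theorem notSolv_of_rel {G : Type*} [Group G] (K : Subgroup G) {x y z : G}
    (hx : x ∈ K) (hy : y ∈ K) (hz : z ∈ K) (hne : x ≠ 1)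
    (h : x = z * ⁅x, y * x * y⁻¹⁆ * z⁻¹) : ¬ Group.IsSolvable K := by
  have hne' : (⟨x, hx⟩ : K) ≠ 1 := fun e => hne (congrArg Subtype.val e)
  have key : (⟨x, hx⟩ : K) = (⟨z, hz⟩ : K) * ⁅(⟨x, hx⟩ : K), (⟨y, hy⟩ : K) * ⟨x, hx⟩ * (⟨y, hy⟩ : K)⁻¹⁆
      * (⟨z, hz⟩ : K)⁻¹ := Subtype.ext (by simpa [commutatorElement_def] using h)
  refine not_isSolvable_of_mem_derivedSeries hne' (fun n => ?_)
  induction n with
  | zero => exact Subgroup.mem_top _
  | succ n ih =>
    rw [key]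
    have hN := derivedSeries_normal K (n + 1)
    apply hN.conj_mem
    rw [derivedSeries_succ]
    apply Subgroup.commutator_mem_commutator ih
    exact (derivedSeries_normal K n).conj_mem _ ih _

variable {X : Type*} [DecidableEq X] [Fintype X]

/-- If `a, b ∈ H` act on the image of `ι` as `A, B` act on `Fin m`, and `⟨A, B⟩` is not solvable,
then `H` is not solvable. -/
theorem notSolv_of_pattern {m : ℕ} (H : Subgroup (Perm X)) {a b : Perm X} (ha : a ∈ H) (hb : b ∈ H)
    (ι : Fin m → X) (hι : Injective ι) (A B : Perm (Fin m))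
    (h1 : ∀ i, a (ι i) = ι (A i)) (h2 : ∀ i, b (ι i) = ι (B i))
    (hK : ¬ Group.IsSolvable (Subgroup.closure ({A, B} : Set (Perm (Fin m))))) :
    ¬ Group.IsSolvable H := by
  intro hH
  apply hK
  let S : Subgroup (Perm X × Perm (Fin m)) := Subgroup.closure {(a, A), (b, B)}
  have hrel : ∀ s ∈ S, ∀ i, s.1 (ι i) = ι (s.2 i) := by
    intro s hs
    induction hs using Subgroup.closure_induction with
    | mem x hx =>
      rcases hx with rfl | rfl
      · exact h1
      · exact h2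
    | one => intro i; rfl
    | mul x y _ _ hx hy =>
      intro i
      simp [hx, hy]
    | inv x _ hx =>
      intro i
      have := hx (x.2⁻¹ i)
      have e : x.2 (x.2⁻¹ i) = i := by simp
      rw [e] at this
      simp only [Prod.fst_inv, Prod.snd_inv]
      rw [Perm.inv_eq_iff_eq, this]
  have hfst : S.map (MonoidHom.fst _ _) ≤ H := by
    rw [MonoidHom.map_closure, Subgroup.closure_le]
    rintro _ ⟨s, hs, rfl⟩
    rcases hs with rfl | rfl
    · exact ha
    · exact hb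
  have hsnd : S.map (MonoidHom.snd _ _) = Subgroup.closure {A, B} := by
    rw [MonoidHom.map_closure]
    congr 1
    ext t
    simp [eq_comm]
  let f : S →* H := ((MonoidHom.fst _ _).comp S.subtype).codRestrict H (fun s =>
    hfst ⟨s.1, s.2, rfl⟩)
  have hf : Injective f := by
    rw [injective_iff_map_eq_one]
    intro s hs
    have h1' : s.1.1 = 1 := congrArg Subtype.val hs
    have hr := hrel s.1 s.2
    have h2' : s.1.2 = 1 := by
      ext i
      have := hr i
      rw [h1'] at this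
      simpa using congrArg _ (hι this).symm
    exact Subtype.ext (Prod.ext h1' h2')
  haveI : Group.IsSolvable S := Group.isSolvable_of_isSolvable_injective hf
  rw [← hsnd]
  exact Group.isSolvable_of_surjective (MonoidHom.subgroupMap_surjective _ S)

/-- Non `p`-power criterion: a nonfixed point of period prime to `p`. -/
theorem not_ppow_of_period {p : ℕ} (π : Perm X) (z : X) {m : ℕ} (hm : Nat.Coprime m p)
    (h1 : (π ^ m) z = z) (h2 : π z ≠ z) : ¬ ∃ k : ℕ, orderOf π = p ^ k := by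
  rintro ⟨k, hk⟩
  have e1 : IsPeriodicPt π m z := by
    rw [IsPeriodicPt, IsFixedPt, Perm.iterate_eq_pow]; exact h1
  have e2 : IsPeriodicPt π (p ^ k) z := by
    rw [IsPeriodicPt, IsFixedPt, Perm.iterate_eq_pow, ← hk, pow_orderOf_eq_one]; rfl
  have e3 : minimalPeriod π z ∣ Nat.gcd m (p ^ k) :=
    Nat.dvd_gcd e1.minimalPeriod_dvd e2.minimalPeriod_dvd
  have e4 : Nat.gcd m (p ^ k) = 1 := Nat.Coprime.pow_right k hm
  rw [e4, Nat.dvd_one, minimalPeriod_eq_one_iff_isFixedPt] at e3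
  exact h2 e3

/-- Orbit points: `E u y i = u^i y`. -/
def E (u : Perm X) (y : X) (i : ℕ) : X := (u ^ i) y

omit [Fintype X] in
@[simp] theorem E_zero (u : Perm X) (y : X) : E u y 0 = y := rfl

omit [Fintype X] in
theorem E_succ (u : Perm X) (y : X) (i : ℕ) : u (E u y i) = E u y (i + 1) := by
  simp [E, pow_succ']

omit [Fintype X] in
theorem E_pow (u : Perm X) (y : X) (k i : ℕ) : (u ^ k) (E u y i) = E u y (i + k) := by
  simp [E, pow_add, Perm.mul_apply, add_comm i k]

omit [Fintype X] in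
theorem E_add (u : Perm X) (y : X) (i j : ℕ) : E u (E u y i) j = E u y (i + j) := by
  simp [E, pow_add, Perm.mul_apply, add_comm i j]

omit [Fintype X] in
theorem E_mod (u : Perm X) (y : X) (i : ℕ) : E u y (i % orderOf u) = E u y i := by
  simp [E, pow_mod_orderOf]

/-- A point not fixed by `u^(P/p)` has an orbit of full length. -/
theorem E_inj {p : ℕ} (hp : p.Prime) {a : ℕ} (u : Perm X) (hu : orderOf u = p ^ (a + 1)) (y : X)
    (hy : (u ^ (p ^ a)) y ≠ y) {i j : ℕ} (hi : i < p ^ (a + 1)) (hj : j < p ^ (a + 1))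
    (h : E u y i = E u y j) : i = j := by
  have key : ∀ {i j : ℕ}, i ≤ j → j < p ^ (a + 1) → E u y i = E u y j → i = j := by
    intro i j hij hj h
    by_contra hne
    have hlt : i < j := lt_of_le_of_ne hij hne
    obtain ⟨d, rfl⟩ := Nat.exists_eq_add_of_le hij
    have hd : (u ^ d) y = y := by
      have : (u ^ i) ((u ^ d) y) = (u ^ i) y := by
        have h' : E u y (i + d) = E u y i := h.symm
        simpa [E, pow_add] using h'
      exact (u ^ i).injective this
    have hper : IsPeriodicPt u d y := by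
      rw [IsPeriodicPt, IsFixedPt, Perm.iterate_eq_pow]; exact hd
    have hper2 : IsPeriodicPt u (p ^ (a + 1)) y := by
      rw [IsPeriodicPt, IsFixedPt, Perm.iterate_eq_pow, ← hu, pow_orderOf_eq_one]; rfl
    have hdvd := hper2.minimalPeriod_dvd
    obtain ⟨c, hc, hce⟩ := (Nat.dvd_prime_pow hp).1 hdvd
    have hdpos : 0 < d := by omega
    have hle : minimalPeriod u y ≤ d := Nat.le_of_dvd hdpos hper.minimalPeriod_dvd
    have hc' : c ≤ a := by
      by_contra hcon
      have : c = a + 1 := by omega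
      subst this
      omega
    have hfin : minimalPeriod u y ∣ p ^ a := by
      rw [hce]; exact pow_dvd_pow _ hc'
    have hper3 : IsPeriodicPt u (p ^ a) y :=
      (isPeriodicPt_iff_minimalPeriod_dvd).2 hfin
    apply hy
    have := hper3
    rw [IsPeriodicPt, IsFixedPt, Perm.iterate_eq_pow] at this
    exact this
  rcases le_total i j with h' | h'
  · exact key h' hj h
  · exact (key h' hi h.symm).symm

/-- Extension of a partial injection to a permutation. -/
theorem exists_perm_ext {I : Type*} [Fintype I] (ι₁ ι₂ : I → X) (h₁ : Injective ι₁)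
    (h₂ : Injective ι₂) : ∃ g : Perm X, ∀ i, g (ι₁ i) = ι₂ i := by
  classical
  let e : {x // x ∈ Set.range ι₁} ≃ {x // x ∈ Set.range ι₂} :=
    (Equiv.ofInjective ι₁ h₁).symm.trans (Equiv.ofInjective ι₂ h₂)
  refine ⟨e.extendSubtype, fun i => ?_⟩
  rw [Equiv.extendSubtype_apply_of_mem e (ι₁ i) ⟨i, rfl⟩]
  show ((Equiv.ofInjective ι₂ h₂) ((Equiv.ofInjective ι₁ h₁).symm ⟨ι₁ i, ⟨i, rfl⟩⟩) : X) = ι₂ i
  rw [Equiv.ofInjective_symm_apply]
  rfl

/-- Parity by pattern variation. -/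
theorem exists_even_ext {I : Type*} [Fintype I] (ι₁ ι₂ : I → X) (h₁ : Injective ι₁)
    (h₂ : Injective ι₂) (s₁ s₂ : X) (hs : s₁ ≠ s₂) :
    ∃ g : Perm X, sign g = 1 ∧ ((∀ i, g (ι₁ i) = ι₂ i) ∨ (∀ i, g (ι₁ i) = swap s₁ s₂ (ι₂ i))) := by
  obtain ⟨g, hg⟩ := exists_perm_ext ι₁ ι₂ h₁ h₂
  rcases Int.units_eq_one_or (sign g) with h | h
  · exact ⟨g, h, Or.inl hg⟩
  · refine ⟨swap s₁ s₂ * g, ?_, Or.inr fun i => by simp [hg]⟩
    simp [h, sign_swap hs]

/-- Parity when two targets are free. -/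
theorem exists_even_ext' {I : Type*} [Fintype I] (ι₁ ι₂ : I → X) (h₁ : Injective ι₁)
    (h₂ : Injective ι₂) (s₁ s₂ : X) (hs : s₁ ≠ s₂) (h1 : ∀ i, ι₂ i ≠ s₁) (h2 : ∀ i, ι₂ i ≠ s₂) :
    ∃ g : Perm X, sign g = 1 ∧ ∀ i, g (ι₁ i) = ι₂ i := by
  obtain ⟨g, hg, h | h⟩ := exists_even_ext ι₁ ι₂ h₁ h₂ s₁ s₂ hs
  · exact ⟨g, hg, h⟩
  · refine ⟨g, hg, fun i => ?_⟩
    rw [h i]
    exact swap_apply_of_ne_of_ne (h1 i) (h2 i)

theorem conj_apply (g w : Perm X) (x : X) : (g * w * g⁻¹) (g x) = g (w x) := by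
  simp

theorem conj_pow_apply (g w : Perm X) (k : ℕ) (x : X) :
    ((g * w * g⁻¹) ^ k) (g x) = g ((w ^ k) x) := by
  rw [conj_pow]
  simp

/-! ### Concrete patterns on five and six points -/

def pA5 : Perm (Fin 5) := ⟨![1, 2, 0, 3, 4], ![2, 0, 1, 3, 4], by decide, by decide⟩
def pB5 : Perm (Fin 5) := ⟨![3, 1, 2, 4, 0], ![4, 1, 2, 0, 3], by decide, by decide⟩
def pA6 : Perm (Fin 6) := ⟨![1, 2, 0, 4, 5, 3], ![2, 0, 1, 5, 3, 4], by decide, by decide⟩
def pZ1 : Perm (Fin 6) := ⟨![1, 5, 4, 2, 3, 0], ![5, 0, 3, 4, 2, 1], by decide, by decide⟩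
def pZ2 : Perm (Fin 6) := ⟨![2, 5, 4, 1, 0, 3], ![4, 3, 0, 5, 2, 1], by decide, by decide⟩
def pB6 : Perm (Fin 6) := ⟨![1, 3, 2, 0, 4, 5], ![3, 0, 2, 1, 4, 5], by decide, by decide⟩
def pD1 : Perm (Fin 6) := ⟨![1, 3, 5, 0, 2, 4], ![3, 0, 4, 1, 5, 2], by decide, by decide⟩
def pD2 : Perm (Fin 6) := ⟨![2, 3, 5, 4, 1, 0], ![5, 4, 0, 1, 3, 2], by decide, by decide⟩

theorem notSolv_pat_of {m : ℕ} (A B : Perm (Fin m)) (hne : A * B ≠ 1)
    (h : A * B = (B * A) * ⁅A * B, B * (A * B) * B⁻¹⁆ * (B * A)⁻¹) :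
    ¬ Group.IsSolvable (Subgroup.closure ({A, B} : Set (Perm (Fin m)))) := by
  have hA : A ∈ Subgroup.closure ({A, B} : Set (Perm (Fin m))) := subset_closure (by simp)
  have hB : B ∈ Subgroup.closure ({A, B} : Set (Perm (Fin m))) := subset_closure (by simp)
  exact notSolv_of_rel _ (mul_mem hA hB) hB (mul_mem hB hA) hne h

theorem notSolv_five : ¬ Group.IsSolvable (Subgroup.closure ({pA5, pB5} : Set (Perm (Fin 5)))) :=
  notSolv_pat_of _ _ (by decide) (by decide)

theorem notSolv_Z1 : ¬ Group.IsSolvable (Subgroup.closure ({pA6, pZ1} : Set (Perm (Fin 6)))) :=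
  notSolv_pat_of _ _ (by decide) (by decide)

theorem notSolv_Z2 : ¬ Group.IsSolvable (Subgroup.closure ({pA6, pZ2} : Set (Perm (Fin 6)))) :=
  notSolv_pat_of _ _ (by decide) (by decide)

theorem notSolv_D1 : ¬ Group.IsSolvable (Subgroup.closure ({pA6, pD1} : Set (Perm (Fin 6)))) :=
  notSolv_pat_of _ _ (by decide) (by decide)

theorem notSolv_D2 : ¬ Group.IsSolvable (Subgroup.closure ({pA6, pD2} : Set (Perm (Fin 6)))) :=
  notSolv_pat_of _ _ (by decide) (by decide)

theorem notSolv_B6 : ¬ Group.IsSolvable (Subgroup.closure ({pA6, pB6} : Set (Perm (Fin 6)))) := by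
  have hA : pA6 ∈ Subgroup.closure ({pA6, pB6} : Set (Perm (Fin 6))) := subset_closure (by simp)
  have hB : pB6 ∈ Subgroup.closure ({pA6, pB6} : Set (Perm (Fin 6))) := subset_closure (by simp)
  exact notSolv_of_rel _ (x := pA6) (y := pB6) (z := pB6 * pB6 * pA6 * pB6) hA hB
    (mul_mem (mul_mem (mul_mem hB hB) hA) hB) (by decide) (by decide)

omit [Fintype X] in
theorem inj_of_nodup5 {c₀ c₁ c₂ c₃ c₄ : X} (h : [c₀, c₁, c₂, c₃, c₄].Nodup) :
    Injective ![c₀, c₁, c₂, c₃, c₄] :=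
  List.nodup_ofFn.1 (by simpa [List.ofFn_succ] using h)

omit [Fintype X] in
theorem inj_of_nodup6 {c₀ c₁ c₂ c₃ c₄ c₅ : X} (h : [c₀, c₁, c₂, c₃, c₄, c₅].Nodup) :
    Injective ![c₀, c₁, c₂, c₃, c₄, c₅] :=
  List.nodup_ofFn.1 (by simpa [List.ofFn_succ] using h)

/-- Elements `x, y` acting on five points as two 3-cycles with exactly one common point. -/
theorem notSolv_twoThree (H : Subgroup (Perm X)) {x y : Perm X} (hx : x ∈ H) (hy : y ∈ H)
    {c c₁ c₂ d₁ d₂ : X} (hd : [c, c₁, c₂, d₁, d₂].Nodup)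
    (x0 : x c = c₁) (x1 : x c₁ = c₂) (x2 : x c₂ = c) (x3 : x d₁ = d₁) (x4 : x d₂ = d₂)
    (y0 : y c = d₁) (y1 : y c₁ = c₁) (y2 : y c₂ = c₂) (y3 : y d₁ = d₂) (y4 : y d₂ = c) :
    ¬ Group.IsSolvable H := by
  refine notSolv_of_pattern H hx hy ![c, c₁, c₂, d₁, d₂] (inj_of_nodup5 hd) pA5 pB5 ?_ ?_ notSolv_five
  · intro i
    fin_cases i
    exacts [x0, x1, x2, x3, x4]
  · intro i
    fin_cases i
    exacts [y0, y1, y2, y3, y4]

/-- The common `A6` hypothesis. -/
theorem notSolv_six (B : Perm (Fin 6))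
    (hB : ¬ Group.IsSolvable (Subgroup.closure ({pA6, B} : Set (Perm (Fin 6)))))
    (H : Subgroup (Perm X)) {a b : Perm X} (ha : a ∈ H) (hb : b ∈ H)
    {q₀ q₁ q₂ q₃ q₄ q₅ : X} (hd : [q₀, q₁, q₂, q₃, q₄, q₅].Nodup)
    (a0 : a q₀ = q₁) (a1 : a q₁ = q₂) (a2 : a q₂ = q₀) (a3 : a q₃ = q₄) (a4 : a q₄ = q₅)
    (a5 : a q₅ = q₃)
    (hb' : ∀ i, b (![q₀, q₁, q₂, q₃, q₄, q₅] i) = ![q₀, q₁, q₂, q₃, q₄, q₅] (B i)) :
    ¬ Group.IsSolvable H := by
  refine notSolv_of_pattern H ha hb ![q₀, q₁, q₂, q₃, q₄, q₅] (inj_of_nodup6 hd) pA6 B ?_ hb' hB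
  intro i
  fin_cases i
  exacts [a0, a1, a2, a3, a4, a5]


/-! ### The local lemmas for `p ≥ 5` -/

theorem L5A (H : Subgroup (Perm X)) {u W : Perm X} (hu : u ∈ H) (hW : W ∈ H)
    {a₀ a₁ a₂ a₃ a₄ c₁ c₂ c₃ : X} (hd : [a₀, a₁, a₂, a₃, a₄].Nodup)
    (u0 : u a₀ = a₁) (u1 : u a₁ = a₂) (u2 : u a₂ = a₃) (u3 : u a₃ = a₄)
    (u4 : u c₁ = a₀) (u5 : u c₂ = c₁) (u6 : u c₃ = c₂)
    (w0 : W a₀ = a₁) (w1 : W a₁ = c₁) (w2 : W a₂ = a₀) (w3 : W a₃ = a₂) (w4 : W a₄ = a₃)
    (w5 : W c₁ = c₂) (w6 : W c₂ = c₃) : ¬ Group.IsSolvable H := by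
  have ht : u * W ∈ H := mul_mem hu hW
  have hu2 : u * u ∈ H := mul_mem hu hu
  have ht' : (u * u) * (u * W) * (u * u)⁻¹ ∈ H := mul_mem (mul_mem hu2 ht) (inv_mem hu2)
  have t0 : (u * W) a₀ = a₂ := by simp [w0, u1]
  have t1 : (u * W) a₁ = a₀ := by simp [w1, u4]
  have t2 : (u * W) a₂ = a₁ := by simp [w2, u0]
  have t3 : (u * W) a₃ = a₃ := by simp [w3, u2]
  have t4 : (u * W) a₄ = a₄ := by simp [w4, u3]
  have t5 : (u * W) c₁ = c₁ := by simp [w5, u5]
  have t6 : (u * W) c₂ = c₂ := by simp [w6, u6]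
  have key : ∀ z z', (u * u) z = z' → ((u * u) * (u * W) * (u * u)⁻¹) z' = (u * u) ((u * W) z) := by
    intro z z' h
    rw [← h]
    simp only [Perm.mul_apply]
    simp
  have s0 : ((u * u) * (u * W) * (u * u)⁻¹) a₂ = a₄ := by
    rw [key a₀ a₂ (by simp [u0, u1]), t0]; simp [u2, u3]
  have s1 : ((u * u) * (u * W) * (u * u)⁻¹) a₃ = a₂ := by
    rw [key a₁ a₃ (by simp [u1, u2]), t1]; simp [u0, u1]
  have s2 : ((u * u) * (u * W) * (u * u)⁻¹) a₄ = a₃ := by
    rw [key a₂ a₄ (by simp [u2, u3]), t2]; simp [u1, u2]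
  have s3 : ((u * u) * (u * W) * (u * u)⁻¹) a₀ = a₀ := by
    rw [key c₂ a₀ (by simp [u5, u4]), t6]; simp [u5, u4]
  have s4 : ((u * u) * (u * W) * (u * u)⁻¹) a₁ = a₁ := by
    rw [key c₁ a₁ (by simp [u4, u0]), t5]; simp [u4, u0]
  refine notSolv_twoThree H ht ht' (c := a₂) (c₁ := a₁) (c₂ := a₀) (d₁ := a₄) (d₂ := a₃) ?_
    t2 t1 t0 t4 t3 s0 s4 s3 s2 s1
  simp only [List.nodup_cons, List.mem_cons, not_or, List.not_mem_nil, not_false_eq_true,
    List.nodup_nil, and_true] at hd ⊢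
  grind


theorem L5C (H : Subgroup (Perm X)) {u W : Perm X} (hu : u ∈ H) (hW : W ∈ H)
    {a₀ a₁ a₂ a₃ a₄ c₁ c₂ : X} (hd : [a₀, a₁, a₂, a₃, a₄].Nodup)
    (u0 : u a₀ = a₁) (u1 : u a₁ = a₂) (u2 : u a₂ = a₃) (u3 : u a₃ = a₄)
    (u4 : u c₁ = a₀) (u5 : u c₂ = c₁)
    (w0 : W a₀ = a₂) (w1 : W a₁ = a₀) (w2 : W a₂ = c₁) (w3 : W a₃ = a₁) (w4 : W a₄ = a₃)
    (w5 : W c₁ = c₂) : ¬ Group.IsSolvable H := by
  have ht : u * W ∈ H := mul_mem hu hW
  have ht' : u * (u * W) * u⁻¹ ∈ H := mul_mem (mul_mem hu ht) (inv_mem hu)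
  have t0 : (u * W) a₀ = a₃ := by simp [w0, u2]
  have t1 : (u * W) a₁ = a₁ := by simp [w1, u0]
  have t2 : (u * W) a₂ = a₀ := by simp [w2, u4]
  have t3 : (u * W) a₃ = a₂ := by simp [w3, u1]
  have t4 : (u * W) a₄ = a₄ := by simp [w4, u3]
  have t5 : (u * W) c₁ = c₁ := by simp [w5, u5]
  have key : ∀ z z', u z = z' → (u * (u * W) * u⁻¹) z' = u ((u * W) z) := by
    intro z z' h
    rw [← h]
    simp only [Perm.mul_apply]
    simp
  have s1 : (u * (u * W) * u⁻¹) a₁ = a₄ := by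
    rw [key a₀ a₁ u0, t0, u3]
  have s2 : (u * (u * W) * u⁻¹) a₂ = a₂ := by
    rw [key a₁ a₂ u1, t1, u1]
  have s3 : (u * (u * W) * u⁻¹) a₃ = a₁ := by
    rw [key a₂ a₃ u2, t2, u0]
  have s4 : (u * (u * W) * u⁻¹) a₄ = a₃ := by
    rw [key a₃ a₄ u3, t3, u2]
  have s0 : (u * (u * W) * u⁻¹) a₀ = a₀ := by
    rw [key c₁ a₀ u4, t5, u4]
  refine notSolv_twoThree H ht ht' (c := a₃) (c₁ := a₂) (c₂ := a₀) (d₁ := a₁) (d₂ := a₄) ?_
    t3 t2 t0 t1 t4 s3 s2 s0 s1 s4
  simp only [List.nodup_cons, List.mem_cons, not_or, List.not_mem_nil, not_false_eq_true,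
    List.nodup_nil, and_true] at hd ⊢
  grind

/-- Pattern A of a sequence. -/
def PatA (p : ℕ) (w₀ u₀ : Perm X) (x y : X) (g : Perm X) : Prop :=
  g (E w₀ x 0) = E u₀ y 0 ∧ g (E w₀ x 1) = E u₀ y 1 ∧
    ∀ j, 2 ≤ j → j < p → g (E w₀ x j) = E u₀ y (p + 1 - j)

/-- Pattern C of a sequence. -/
def PatC (p : ℕ) (w₀ u₀ : Perm X) (x y : X) (g : Perm X) : Prop :=
  g (E w₀ x 0) = E u₀ y 0 ∧ g (E w₀ x 1) = E u₀ y 2 ∧ g (E w₀ x (p - 1)) = E u₀ y 1 ∧
    ∀ j, 2 ≤ j → j < p - 1 → g (E w₀ x j) = E u₀ y (p + 1 - j)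

theorem E_period {u : Perm X} {n : ℕ} (h : u ^ n = 1) (y : X) : E u y n = y := by
  simp [E, h]

theorem P5A_core {p : ℕ} (hp : 5 ≤ p) {u₀ w₀ g : Perm X} {x y : X} (hu₀ : u₀ ^ p = 1)
    (hw₀ : w₀ ^ p = 1) (ha : ∀ i j, i < p → j < p → E u₀ y i = E u₀ y j → i = j)
    (hg : PatA p w₀ u₀ x y g) (H : Subgroup (Perm X)) (hu : u₀ ∈ H) (hW : g * w₀ * g⁻¹ ∈ H) :
    ¬ Group.IsSolvable H ∧ (u₀ * (g * w₀ * g⁻¹)) (E u₀ y 0) = E u₀ y 2 ∧
      (u₀ * (g * w₀ * g⁻¹)) (E u₀ y 2) = E u₀ y 1 ∧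
      (u₀ * (g * w₀ * g⁻¹)) (E u₀ y 1) = E u₀ y 0 := by
  obtain ⟨g0, g1, g2⟩ := hg
  have step : ∀ j k l, g (E w₀ x j) = E u₀ y k → g (E w₀ x (j + 1)) = E u₀ y l →
      (g * w₀ * g⁻¹) (E u₀ y k) = E u₀ y l := by
    intro j k l h1 h2
    rw [← h1, conj_apply, E_succ, h2]
  have gp : g (E w₀ x p) = E u₀ y 0 := by rw [E_period hw₀, ← g0]; rfl
  have gA : g (E w₀ x (p - 1)) = E u₀ y 2 := by
    have := g2 (p - 1) (by omega) (by omega)
    rwa [show p + 1 - (p - 1) = 2 by omega] at this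
  have gB : g (E w₀ x (p - 2)) = E u₀ y 3 := by
    have := g2 (p - 2) (by omega) (by omega)
    rwa [show p + 1 - (p - 2) = 3 by omega] at this
  have gC : g (E w₀ x (p - 3)) = E u₀ y 4 := by
    have := g2 (p - 3) (by omega) (by omega)
    rwa [show p + 1 - (p - 3) = 4 by omega] at this
  have g22 : g (E w₀ x 2) = E u₀ y (p - 1) := by
    have := g2 2 (by omega) (by omega)
    rwa [show p + 1 - 2 = p - 1 by omega] at this
  have g23 : g (E w₀ x 3) = E u₀ y (p - 2) := by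
    have := g2 3 (by omega) (by omega)
    rwa [show p + 1 - 3 = p - 2 by omega] at this
  have g24 : g (E w₀ x 4) = E u₀ y (p - 3) := by
    have := g2 4 (by omega) (by omega)
    rwa [show p + 1 - 4 = p - 3 by omega] at this
  have w0 := step 0 0 1 g0 g1
  have w1 := step 1 1 (p - 1) g1 g22
  have w2 := step (p - 1) 2 0 gA (by rw [show p - 1 + 1 = p by omega]; exact gp)
  have w3 := step (p - 2) 3 2 gB (by rw [show p - 2 + 1 = p - 1 by omega]; exact gA)
  have w4 := step (p - 3) 4 3 gC (by rw [show p - 3 + 1 = p - 2 by omega]; exact gB)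
  have w5 := step 2 (p - 1) (p - 2) g22 g23
  have w6 := step 3 (p - 2) (p - 3) g23 g24
  have u4 : u₀ (E u₀ y (p - 1)) = E u₀ y 0 := by
    rw [E_succ, show p - 1 + 1 = p by omega, E_period hu₀]; rfl
  have u5 : u₀ (E u₀ y (p - 2)) = E u₀ y (p - 1) := by
    rw [E_succ, show p - 2 + 1 = p - 1 by omega]
  have u6 : u₀ (E u₀ y (p - 3)) = E u₀ y (p - 2) := by
    rw [E_succ, show p - 3 + 1 = p - 2 by omega]
  have hd : [E u₀ y 0, E u₀ y 1, E u₀ y 2, E u₀ y 3, E u₀ y 4].Nodup := by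
    have : [E u₀ y 0, E u₀ y 1, E u₀ y 2, E u₀ y 3, E u₀ y 4] = [0, 1, 2, 3, 4].map (E u₀ y) := rfl
    rw [this]
    refine List.Nodup.map_on ?_ (by decide)
    intro i hi j hj h
    simp only [List.mem_cons, List.not_mem_nil, or_false] at hi hj
    exact ha i j (by omega) (by omega) h
  refine ⟨L5A H hu hW hd (E_succ u₀ y 0) (E_succ u₀ y 1) (E_succ u₀ y 2) (E_succ u₀ y 3) u4 u5 u6
    w0 w1 w2 w3 w4 w5 w6, ?_, ?_, ?_⟩
  · rw [Perm.mul_apply, w0]; exact E_succ u₀ y 1
  · rw [Perm.mul_apply, w2]; exact E_succ u₀ y 0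
  · rw [Perm.mul_apply, w1]; exact u4

theorem P5C_core {p : ℕ} (hp : 5 ≤ p) {u₀ w₀ g : Perm X} {x y : X} (hu₀ : u₀ ^ p = 1)
    (hw₀ : w₀ ^ p = 1) (ha : ∀ i j, i < p → j < p → E u₀ y i = E u₀ y j → i = j)
    (hg : PatC p w₀ u₀ x y g) (H : Subgroup (Perm X)) (hu : u₀ ∈ H) (hW : g * w₀ * g⁻¹ ∈ H) :
    ¬ Group.IsSolvable H ∧ (u₀ * (g * w₀ * g⁻¹)) (E u₀ y 0) = E u₀ y 3 ∧
      (u₀ * (g * w₀ * g⁻¹)) (E u₀ y 3) = E u₀ y 2 ∧
      (u₀ * (g * w₀ * g⁻¹)) (E u₀ y 2) = E u₀ y 0 := by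
  obtain ⟨g0, g1, gl, g2⟩ := hg
  have step : ∀ j k l, g (E w₀ x j) = E u₀ y k → g (E w₀ x (j + 1)) = E u₀ y l →
      (g * w₀ * g⁻¹) (E u₀ y k) = E u₀ y l := by
    intro j k l h1 h2
    rw [← h1, conj_apply, E_succ, h2]
  have gp : g (E w₀ x p) = E u₀ y 0 := by rw [E_period hw₀, ← g0]; rfl
  have gB : g (E w₀ x (p - 2)) = E u₀ y 3 := by
    have := g2 (p - 2) (by omega) (by omega)
    rwa [show p + 1 - (p - 2) = 3 by omega] at this
  have gC : g (E w₀ x (p - 3)) = E u₀ y 4 := by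
    have := g2 (p - 3) (by omega) (by omega)
    rwa [show p + 1 - (p - 3) = 4 by omega] at this
  have g22 : g (E w₀ x 2) = E u₀ y (p - 1) := by
    have := g2 2 (by omega) (by omega)
    rwa [show p + 1 - 2 = p - 1 by omega] at this
  have g23 : g (E w₀ x 3) = E u₀ y (p - 2) := by
    have := g2 3 (by omega) (by omega)
    rwa [show p + 1 - 3 = p - 2 by omega] at this
  have w0 := step 0 0 2 g0 g1
  have w1 := step (p - 1) 1 0 gl (by rw [show p - 1 + 1 = p by omega]; exact gp)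
  have w2 := step 1 2 (p - 1) g1 g22
  have w3 := step (p - 2) 3 1 gB (by rw [show p - 2 + 1 = p - 1 by omega]; exact gl)
  have w4 := step (p - 3) 4 3 gC (by rw [show p - 3 + 1 = p - 2 by omega]; exact gB)
  have w5 := step 2 (p - 1) (p - 2) g22 g23
  have u4 : u₀ (E u₀ y (p - 1)) = E u₀ y 0 := by
    rw [E_succ, show p - 1 + 1 = p by omega, E_period hu₀]; rfl
  have u5 : u₀ (E u₀ y (p - 2)) = E u₀ y (p - 1) := by
    rw [E_succ, show p - 2 + 1 = p - 1 by omega]
  have hd : [E u₀ y 0, E u₀ y 1, E u₀ y 2, E u₀ y 3, E u₀ y 4].Nodup := by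
    have : [E u₀ y 0, E u₀ y 1, E u₀ y 2, E u₀ y 3, E u₀ y 4] = [0, 1, 2, 3, 4].map (E u₀ y) := rfl
    rw [this]
    refine List.Nodup.map_on ?_ (by decide)
    intro i hi j hj h
    simp only [List.mem_cons, List.not_mem_nil, or_false] at hi hj
    exact ha i j (by omega) (by omega) h
  refine ⟨L5C H hu hW hd (E_succ u₀ y 0) (E_succ u₀ y 1) (E_succ u₀ y 2) (E_succ u₀ y 3) u4 u5
    w0 w1 w2 w3 w4 w5, ?_, ?_, ?_⟩
  · rw [Perm.mul_apply, w0]; exact E_succ u₀ y 2
  · rw [Perm.mul_apply, w3]; exact E_succ u₀ y 1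
  · rw [Perm.mul_apply, w2]; exact u4

/-- The exponent function of pattern A. -/
def eA (p j : ℕ) : ℕ := if j = 0 then 0 else if j = 1 then 1 else p + 1 - j

theorem P5_select {I₀ : Type*} [Fintype I₀] {p : ℕ} (hp : 5 ≤ p) {u₀ w₀ : Perm X} {x y : X}
    (ha : ∀ i j, i < p → j < p → E u₀ y i = E u₀ y j → i = j)
    (hb : ∀ i j, i < p → j < p → E w₀ x i = E w₀ x j → i = j)
    (ρ τ : I₀ → X) (hρ : Injective ρ) (hτ : Injective τ)
    (hρb : ∀ i, ∀ j, j < p → ρ i ≠ E w₀ x j) (hτa : ∀ i, ∀ j, j < p → τ i ≠ E u₀ y j) :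
    ∃ g : Perm X, sign g = 1 ∧ (∀ i, g (ρ i) = τ i) ∧
      (PatA p w₀ u₀ x y g ∨ PatC p w₀ u₀ x y g) := by
  have hp0 : 0 < p := by omega
  let ι₁ : Fin p ⊕ I₀ → X := Sum.elim (fun j => E w₀ x j.1) ρ
  let ι₂ : Fin p ⊕ I₀ → X := Sum.elim (fun j => E u₀ y (eA p j.1)) τ
  have h₁ : Injective ι₁ := by
    refine Function.Injective.sumElim ?_ hρ ?_
    · intro i j h
      exact Fin.ext (hb _ _ i.2 j.2 h)
    · intro i j h
      exact hρb j i.1 i.2 h.symm
  have heA : ∀ j, j < p → eA p j < p := by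
    intro j hj
    unfold eA
    split_ifs <;> omega
  have h₂ : Injective ι₂ := by
    refine Function.Injective.sumElim ?_ hτ ?_
    · intro i j h
      have := ha _ _ (heA _ i.2) (heA _ j.2) h
      have hi := i.2
      have hj := j.2
      apply Fin.ext
      unfold eA at this
      split_ifs at this <;> omega
    · intro i j h
      exact hτa j _ (heA _ i.2) h.symm
  have h12 : E u₀ y 1 ≠ E u₀ y 2 := fun h => by
    have := ha 1 2 (by omega) (by omega) h
    omega
  obtain ⟨g, hg, h | h⟩ := exists_even_ext ι₁ ι₂ h₁ h₂ (E u₀ y 1) (E u₀ y 2) h12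
  · refine ⟨g, hg, fun i => h (Sum.inr i), Or.inl ⟨?_, ?_, ?_⟩⟩
    · exact h (Sum.inl ⟨0, by omega⟩)
    · exact h (Sum.inl ⟨1, by omega⟩)
    · intro j hj hj'
      have := h (Sum.inl ⟨j, hj'⟩)
      simpa [ι₁, ι₂, eA, show j ≠ 0 by omega, show j ≠ 1 by omega] using this
  · refine ⟨g, hg, fun i => ?_, Or.inr ⟨?_, ?_, ?_, ?_⟩⟩
    · refine (h (Sum.inr i)).trans ?_
      exact swap_apply_of_ne_of_ne (hτa i 1 (by omega)) (hτa i 2 (by omega))
    · refine (h (Sum.inl ⟨0, by omega⟩)).trans ?_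
      show swap (E u₀ y 1) (E u₀ y 2) (E u₀ y (eA p 0)) = _
      rw [show eA p 0 = 0 by simp [eA]]
      refine swap_apply_of_ne_of_ne ?_ ?_
      · intro h'
        have := ha _ _ (by omega) (by omega) h'
        omega
      · intro h'
        have := ha _ _ (by omega) (by omega) h'
        omega
    · refine (h (Sum.inl ⟨1, by omega⟩)).trans ?_
      show swap (E u₀ y 1) (E u₀ y 2) (E u₀ y (eA p 1)) = _
      rw [show eA p 1 = 1 by simp [eA]]
      exact swap_apply_left _ _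
    · refine (h (Sum.inl ⟨p - 1, by omega⟩)).trans ?_
      show swap (E u₀ y 1) (E u₀ y 2) (E u₀ y (eA p (p - 1))) = _
      have e : eA p (p - 1) = 2 := by
        unfold eA
        rw [if_neg (by omega), if_neg (by omega)]
        omega
      rw [e]
      exact swap_apply_right _ _
    · intro j hj hj'
      refine (h (Sum.inl ⟨j, by omega⟩)).trans ?_
      show swap (E u₀ y 1) (E u₀ y 2) (E u₀ y (eA p j)) = _
      have e : eA p j = p + 1 - j := by
        unfold eA
        rw [if_neg (by omega), if_neg (by omega)]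
      rw [e]
      refine swap_apply_of_ne_of_ne ?_ ?_
      · intro h'
        have := ha _ _ (by omega) (by omega) h'
        omega
      · intro h'
        have := ha _ _ (by omega) (by omega) h'
        omega


/-! ### Assembly -/

/-- The conclusion for a conjugator `g`. -/
def Good (p : ℕ) (u w g : Perm X) : Prop :=
  sign g = 1 ∧ (¬ ∃ k : ℕ, orderOf (u * (g * w * g⁻¹)) = p ^ k) ∧
    ¬ Group.IsSolvable (Subgroup.closure ({u, g * w * g⁻¹} : Set (Perm X)))

theorem Good.symm {p : ℕ} {u w g : Perm X} (h : Good p w u g) : Good p u w g⁻¹ := by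
  obtain ⟨h1, h2, h3⟩ := h
  refine ⟨by simpa using h1, ?_, ?_⟩
  · rintro ⟨k, hk⟩
    apply h2
    refine ⟨k, ?_⟩
    rw [← hk]
    have : u * (g⁻¹ * w * g⁻¹⁻¹) = (w * g)⁻¹ * (w * (g * u * g⁻¹)) * (w * g) := by
      group
    rw [this]
    have h5 := orderOf_injective (MulAut.conj (w * g)⁻¹).toMonoidHom (MulEquiv.injective _)
      (w * (g * u * g⁻¹))
    rw [← h5]
    show orderOf ((w * g)⁻¹ * (w * (g * u * g⁻¹)) * ((w * g)⁻¹)⁻¹) = _
    rw [inv_inv]
  · intro hs
    apply h3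
    have e : (Subgroup.closure ({u, g⁻¹ * w * g⁻¹⁻¹} : Set (Perm X))).map
        (MulAut.conj g).toMonoidHom = Subgroup.closure ({w, g * u * g⁻¹} : Set (Perm X)) := by
      rw [MonoidHom.map_closure, Set.image_pair, Set.pair_comm]
      congr 3
      simp [MulAut.conj_apply]
      group
    rw [← e]
    exact Group.isSolvable_of_surjective (MonoidHom.subgroupMap_surjective _ _)

theorem exists_moved {p a : ℕ} (hp : p.Prime) (u : Perm X) (hu : orderOf u = p ^ (a + 1)) :
    ∃ y, (u ^ (p ^ a)) y ≠ y := by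
  by_contra hcon
  push Not at hcon
  have h1 : u ^ (p ^ a) = 1 := Equiv.ext hcon
  have h2 := orderOf_dvd_of_pow_eq_one h1
  rw [hu] at h2
  have := (Nat.pow_dvd_pow_iff_le_right hp.one_lt).1 h2
  omega

omit [Fintype X] in
theorem E_pow_base (u : Perm X) (y : X) (Q j : ℕ) : E (u ^ Q) y j = E u y (Q * j) := by
  simp [E, pow_mul]

omit [Fintype X] in
theorem conj_mem_closure_aux (u W : Perm X) :
    u ∈ Subgroup.closure ({u, W} : Set (Perm X)) ∧ W ∈ Subgroup.closure ({u, W} : Set (Perm X)) :=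
  ⟨subset_closure (by simp), subset_closure (by simp)⟩

/-- Injectivity of orbit of a power. -/
theorem E_pow_inj {p a : ℕ} (hp : p.Prime) (u : Perm X) (hu : orderOf u = p ^ (a + 1)) (y : X)
    (hy : (u ^ (p ^ a)) y ≠ y) (i j : ℕ) (hi : i < p) (hj : j < p)
    (h : E (u ^ (p ^ a)) y i = E (u ^ (p ^ a)) y j) : i = j := by
  rw [E_pow_base, E_pow_base] at h
  have hpos : 0 < p ^ a := pow_pos hp.pos a
  have hlt : ∀ k, k < p → p ^ a * k < p ^ (a + 1) := by
    intro k hk
    rw [pow_succ]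
    exact Nat.mul_lt_mul_of_pos_left hk hpos
  have := E_inj hp u hu y hy (hlt i hi) (hlt j hj) h
  exact Nat.eq_of_mul_eq_mul_left hpos this

theorem pow_pow_eq_one {p a : ℕ} (u : Perm X) (hu : orderOf u = p ^ (a + 1)) :
    (u ^ (p ^ a)) ^ p = 1 := by
  rw [← pow_mul, ← pow_succ, ← hu, pow_orderOf_eq_one]

theorem pow3_apply (π : Perm X) (z : X) : (π ^ 3) z = π (π (π z)) := by
  simp [pow_succ, Perm.mul_apply]

theorem pow2_apply (π : Perm X) (z : X) : (π ^ 2) z = π (π z) := by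
  simp [pow_succ, Perm.mul_apply]

theorem pow5_apply (π : Perm X) (z : X) : (π ^ 5) z = π (π (π (π (π z)))) := by
  simp [pow_succ, Perm.mul_apply]

/-- Case: `p ≥ 5`, both elements have order `p`. -/
theorem case_beta {p : ℕ} (hp : p.Prime) (h5 : 5 ≤ p) {u w : Perm X}
    (hu : orderOf u = p ^ (0 + 1)) (hw : orderOf w = p ^ (0 + 1)) : ∃ g, Good p u w g := by
  obtain ⟨y, hy⟩ := exists_moved hp u hu
  obtain ⟨x, hx⟩ := exists_moved hp w hw
  simp only [pow_zero, pow_one] at hy hx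
  have ha : ∀ i j, i < p → j < p → E u y i = E u y j → i = j := by
    intro i j hi hj h
    exact E_inj hp u hu y (by simpa using hy) (by simpa using hi) (by simpa using hj) h
  have hb : ∀ i j, i < p → j < p → E w x i = E w x j → i = j := by
    intro i j hi hj h
    exact E_inj hp w hw x (by simpa using hx) (by simpa using hi) (by simpa using hj) h
  have hup : u ^ p = 1 := by rw [← pow_one p, ← zero_add 1, ← hu, pow_orderOf_eq_one]
  have hwp : w ^ p = 1 := by rw [← pow_one p, ← zero_add 1, ← hw, pow_orderOf_eq_one]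
  obtain ⟨g, hg, -, hpat⟩ := P5_select (I₀ := Empty) h5 ha hb (fun e => e.elim) (fun e => e.elim)
    (fun e => e.elim) (fun e => e.elim) (fun e => e.elim) (fun e => e.elim)
  have hH := conj_mem_closure_aux u (g * w * g⁻¹)
  have h3 : Nat.Coprime 3 p := (Nat.coprime_primes Nat.prime_three hp).2 (by omega)
  rcases hpat with hpat | hpat
  · obtain ⟨ns, t0, t2, t1⟩ := P5A_core h5 hup hwp ha hpat _ hH.1 hH.2
    refine ⟨g, hg, ?_, ns⟩
    refine not_ppow_of_period _ (E u y 0) h3 ?_ ?_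
    · rw [pow3_apply, t0, t2, t1]
    · rw [t0]
      intro h'
      have := ha _ _ (by omega) (by omega) h'
      omega
  · obtain ⟨ns, t0, t3, t2⟩ := P5C_core h5 hup hwp ha hpat _ hH.1 hH.2
    refine ⟨g, hg, ?_, ns⟩
    refine not_ppow_of_period _ (E u y 0) h3 ?_ ?_
    · rw [pow3_apply, t0, t3, t2]
    · rw [t0]
      intro h'
      have := ha _ _ (by omega) (by omega) h'
      omega

/-- Case: `p ≥ 5`, `P ≥ p²`, and four free arrows are available. -/
theorem case_arrows {p a b : ℕ} (hp : p.Prime) (h5 : 5 ≤ p) {u w : Perm X}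
    (hu : orderOf u = p ^ (a + 1 + 1)) (hw : orderOf w = p ^ (b + 1)) {x x₁ : X}
    (hx : (w ^ (p ^ b)) x ≠ x)
    (hρ : Injective (fun i : Fin 4 => E w x₁ i.1))
    (hρb : ∀ i : Fin 4, ∀ j, j < p → E w x₁ i.1 ≠ E (w ^ (p ^ b)) x j) : ∃ g, Good p u w g := by
  obtain ⟨y, hy⟩ := exists_moved hp u hu
  have hQ : 5 ≤ p ^ (a + 1) := by
    calc 5 ≤ p := h5
      _ = p ^ 1 := (pow_one p).symm
      _ ≤ p ^ (a + 1) := Nat.pow_le_pow_right hp.pos (by omega)
  have hQP : p ^ (a + 1 + 1) = p ^ (a + 1) * p := pow_succ _ _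
  have hPbig : 25 ≤ p ^ (a + 1 + 1) := by rw [hQP]; nlinarith
  have ha := E_pow_inj hp u hu y hy
  have hb := E_pow_inj hp w hw x hx
  have hinj : ∀ i j, i < p ^ (a + 1 + 1) → j < p ^ (a + 1 + 1) → E u y i = E u y j → i = j :=
    fun i j hi hj h => E_inj hp u hu y hy hi hj h
  let τ : Fin 4 → X := fun i => E u y (![2, 3, 4, 1] i)
  have hτ : Injective τ := by
    intro i j h
    have := hinj _ _ ?_ ?_ h
    · revert this
      fin_cases i <;> fin_cases j <;> simp
    · fin_cases i <;> simp <;> omega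
    · fin_cases j <;> simp <;> omega
  have hτa : ∀ i, ∀ j, j < p → τ i ≠ E (u ^ (p ^ (a + 1))) y j := by
    intro i j hj h
    rw [E_pow_base] at h
    have hlt : p ^ (a + 1) * j < p ^ (a + 1 + 1) := by
      rw [hQP]
      exact Nat.mul_lt_mul_of_pos_left hj (by omega)
    have := hinj _ _ ?_ hlt h
    · rcases Nat.eq_zero_or_pos j with rfl | hj0
      · revert this
        fin_cases i <;> simp
      · have h6 : p ^ (a + 1) ≤ p ^ (a + 1) * j := Nat.le_mul_of_pos_right _ hj0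
        revert this
        fin_cases i <;> simp <;> omega
    · fin_cases i <;> simp <;> omega
  obtain ⟨g, hg, hext, hpat⟩ := P5_select h5 ha hb (fun i : Fin 4 => E w x₁ i.1) τ hρ hτ hρb hτa
  set W := g * w * g⁻¹ with hWdef
  have hH := conj_mem_closure_aux u W
  have hu₀ : u ^ (p ^ (a + 1)) ∈ Subgroup.closure ({u, W} : Set (Perm X)) := pow_mem hH.1 _
  have hW₀ : g * (w ^ (p ^ b)) * g⁻¹ ∈ Subgroup.closure ({u, W} : Set (Perm X)) := by
    have : g * (w ^ (p ^ b)) * g⁻¹ = W ^ (p ^ b) := by rw [hWdef, conj_pow]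
    rw [this]
    exact pow_mem hH.2 _
  have hup := pow_pow_eq_one u hu
  have hwp := pow_pow_eq_one w hw
  have ns : ¬ Group.IsSolvable (Subgroup.closure ({u, W} : Set (Perm X))) := by
    rcases hpat with hpat | hpat
    · exact (P5A_core h5 hup hwp ha hpat _ hu₀ hW₀).1
    · exact (P5C_core h5 hup hwp ha hpat _ hu₀ hW₀).1
  refine ⟨g, hg, ?_, ns⟩
  have e0 : g (E w x₁ 0) = E u y 2 := hext 0
  have e1 : g (E w x₁ 1) = E u y 3 := hext 1
  have e2 : g (E w x₁ 2) = E u y 4 := hext 2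
  have e3 : g (E w x₁ 3) = E u y 1 := hext 3
  have π1 : (u * W) (E u y 2) = E u y 4 := by
    rw [Perm.mul_apply, ← e0, hWdef, conj_apply, E_succ, e1, E_succ]
  have π2 : (u * W) (E u y 4) = E u y 2 := by
    rw [Perm.mul_apply, ← e2, hWdef, conj_apply, E_succ, e3, E_succ]
  have h2 : Nat.Coprime 2 p := (Nat.coprime_primes Nat.prime_two hp).2 (by omega)
  refine not_ppow_of_period _ (E u y 2) h2 ?_ ?_
  · rw [pow2_apply, π1, π2]
  · rw [π1]
    intro h'
    have := hinj _ _ (by omega) (by omega) h'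
    omega


/-- The commutator of two permutations whose supports meet in one point is a 3-cycle. -/
theorem comm_three (a b : Perm X) (x : X) (hax : a x ≠ x) (hbx : b x ≠ x)
    (h : ∀ z, a z ≠ z → b z ≠ z → z = x) :
    ⁅a, b⁆ x = a x ∧ ⁅a, b⁆ (a x) = b x ∧ ⁅a, b⁆ (b x) = x ∧
      ∀ z, z ≠ x → z ≠ a x → z ≠ b x → ⁅a, b⁆ z = z := by
  have fa : ∀ z, z ≠ x → a z ≠ z → b z = z := fun z hz haz => by
    by_contra hbz
    exact hz (h z haz hbz)
  have fb : ∀ z, z ≠ x → b z ≠ z → a z = z := fun z hz hbz => by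
    by_contra haz
    exact hz (h z haz hbz)
  have ainv : ∀ z, a z = z → a⁻¹ z = z := fun z hz => by
    rw [Perm.inv_eq_iff_eq]; exact hz.symm
  have binv : ∀ z, b z = z → b⁻¹ z = z := fun z hz => by
    rw [Perm.inv_eq_iff_eq]; exact hz.symm
  have capp : ∀ z, ⁅a, b⁆ z = a (b (a⁻¹ (b⁻¹ z))) := fun z => by
    simp [commutatorElement_def, Perm.mul_apply]
  have hax' : a (a x) ≠ a x := fun e => hax (a.injective e)
  have hbx' : b (b x) ≠ b x := fun e => hbx (b.injective e)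
  have bax : b (a x) = a x := fa _ hax hax'
  have abx : a (b x) = b x := fb _ hbx hbx'
  refine ⟨?_, ?_, ?_, ?_⟩
  · rw [capp]
    have hw : b⁻¹ x ≠ x := fun e => hbx (by
      have := congrArg b e
      simpa using this.symm)
    have hw2 : b (b⁻¹ x) ≠ b⁻¹ x := by
      simpa using hw.symm
    rw [ainv _ (fb _ hw hw2)]
    simp
  · rw [capp, binv _ bax]
    simp [abx]
  · rw [capp]
    have hv : a⁻¹ x ≠ x := fun e => hax (by
      have := congrArg a e
      simpa using this.symm)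
    have hv2 : a (a⁻¹ x) ≠ a⁻¹ x := by
      simpa using hv.symm
    have e0 : b⁻¹ (b x) = x := by simp
    rw [e0, fa _ hv hv2]
    simp
  · intro z h1 h2 h3
    rw [capp]
    by_cases hbz : b z = z
    · rw [binv _ hbz]
      by_cases haz : a z = z
      · rw [ainv _ haz, hbz, haz]
      · have hv : a⁻¹ z ≠ z := fun e => haz (by
          have := congrArg a e
          simpa using this.symm)
        have hv2 : a⁻¹ z ≠ x := fun e => h2 (by
          have := congrArg a e
          simpa using this)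
        have hv3 : a (a⁻¹ z) ≠ a⁻¹ z := by
          simpa using hv.symm
        rw [fa _ hv2 hv3]
        simp
    · have haz : a z = z := fb _ h1 hbz
      have hw : b⁻¹ z ≠ z := fun e => hbz (by
        have := congrArg b e
        simpa using this.symm)
      have hw2 : b⁻¹ z ≠ x := fun e => h3 (by
        have := congrArg b e
        simpa using this)
      have hw3 : b (b⁻¹ z) ≠ b⁻¹ z := by
        simpa using hw.symm
      rw [ainv _ (fb _ hw2 hw3)]
      simp [haz]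

/-- Second orbit separation. -/
theorem E_sep {σ : Perm X} {n : ℕ} (hσ : σ ^ n = 1) {z y : X} {i j : ℕ} (hi : i ≤ n)
    (h : E σ z i = E σ y j) : z = E σ y (j + (n - i)) := by
  have := congrArg (σ ^ (n - i)) h
  rw [E_pow, E_pow, show i + (n - i) = n by omega, E_period hσ] at this
  exact this

/-- Case: the second element is a single `p`-cycle and the first has order at least `p²`. -/
theorem case_eps {q a : ℕ} (hp : (q + 3).Prime) {u w : Perm X}
    (hu : orderOf u = (q + 3) ^ (a + 1 + 1)) (hw : orderOf w = (q + 3) ^ (0 + 1)) {x : X}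
    (hpure : ∀ z, (∀ j, z ≠ E w x j) → w z = z) : ∃ g, Good (q + 3) u w g := by
  obtain ⟨y, hy⟩ := exists_moved hp u hu
  set p := q + 3 with hpdef
  have hPbig : p * p ≤ p ^ (a + 1 + 1) := by
    calc p * p = p ^ 2 := (pow_two p).symm
      _ ≤ p ^ (a + 1 + 1) := Nat.pow_le_pow_right hp.pos (by omega)
  have hR : 4 * q + 8 < p ^ (a + 1 + 1) := by
    have : 4 * q + 8 < p * p := by rw [hpdef]; nlinarith
    omega
  have hinj : ∀ i j, i < p ^ (a + 1 + 1) → j < p ^ (a + 1 + 1) → E u y i = E u y j → i = j :=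
    fun i j hi hj h => E_inj hp u hu y hy hi hj h
  have hwp : w ^ p = 1 := by
    have : w ^ orderOf w = 1 := pow_orderOf_eq_one w
    rwa [hw, zero_add, pow_one] at this
  have hne0 : NeZero p := ⟨by omega⟩
  let ι₁ : Fin p → X := fun j => E w x j.1
  let ι₂ : Fin p → X := fun j => E u y (2 * (p - 1 - j.1))
  have hι₂ : Injective ι₂ := by
    intro i j h
    have := hinj _ _ (by have := i.2; omega) (by have := j.2; omega) h
    have hi := i.2
    have hj := j.2
    apply Fin.ext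
    omega
  by_cases hx : w x = x
  · exact absurd (Equiv.ext (fun z => by
      by_cases hz : ∀ j, z ≠ E w x j
      · exact hpure z hz
      · push Not at hz
        obtain ⟨j, rfl⟩ := hz
        have : E w x j = x := by
          induction j with
          | zero => rfl
          | succ n ih => rw [← E_succ, ih, hx]
        rw [this, hx]; rfl)) (fun e : w = 1 => by
        rw [e, orderOf_one] at hw
        have := hp.one_lt
        rw [zero_add, pow_one] at hw
        omega)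
  have hx' : (w ^ (p ^ 0)) x ≠ x := by simpa using hx
  have hb : ∀ i j, i < p → j < p → E w x i = E w x j → i = j := by
    intro i j hi hj h
    exact E_inj hp w hw x hx' (by simpa using hi) (by simpa using hj) h
  have hι₁ : Injective ι₁ := fun i j h => Fin.ext (hb _ _ i.2 j.2 h)
  have hs : E u y 1 ≠ E u y 3 := fun h => by
    have := hinj _ _ (by omega) (by omega) h
    omega
  obtain ⟨g, hg, hext⟩ := exists_even_ext' ι₁ ι₂ hι₁ hι₂ (E u y 1) (E u y 3) hs
    (fun i h => by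
      have := hinj _ _ (by have := i.2; omega) (by omega) h
      omega)
    (fun i h => by
      have := hinj _ _ (by have := i.2; omega) (by omega) h
      omega)
  have hgE : ∀ j, j < p → g (E w x j) = E u y (2 * (p - 1 - j)) := fun j hj => hext ⟨j, hj⟩
  set W := g * w * g⁻¹ with hWdef
  have hW_even : ∀ i, i + 1 < p → W (E u y (2 * i + 2)) = E u y (2 * i) := by
    intro i hi
    have h1 := hgE (p - 1 - (i + 1)) (by omega)
    have h2 := hgE (p - 1 - (i + 1) + 1) (by omega)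
    rw [show 2 * (p - 1 - (p - 1 - (i + 1))) = 2 * i + 2 by omega] at h1
    rw [show 2 * (p - 1 - (p - 1 - (i + 1) + 1)) = 2 * i by omega] at h2
    rw [← h1, hWdef, conj_apply, E_succ, h2]
  have hW_zero : W (E u y 0) = E u y (2 * q + 4) := by
    have h1 := hgE (p - 1) (by omega)
    rw [show 2 * (p - 1 - (p - 1)) = 0 by omega] at h1
    have h2 := hgE 0 (by omega)
    rw [show 2 * (p - 1 - 0) = 2 * q + 4 by omega] at h2
    rw [← h1, hWdef, conj_apply, E_succ, show p - 1 + 1 = p by omega, E_period hwp]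
    exact h2
  have hW_fix : ∀ z, (∀ i, i < p → z ≠ E u y (2 * i)) → W z = z := by
    intro z hz
    have hv : ∀ j, g⁻¹ z ≠ E w x j := by
      intro j hj
      have hj' : g⁻¹ z = E w x (j % p) := by
        rw [hj, ← E_mod w x j, hw, zero_add, pow_one]
      have h3 : z = g (g⁻¹ z) := by simp
      rw [hj', hgE _ (Nat.mod_lt _ hp.pos)] at h3
      exact hz (p - 1 - j % p) (by omega) h3
    have := hpure _ hv
    rw [hWdef]
    simp only [Perm.mul_apply]
    rw [this]
    simp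
  set s := 2 * q + 4 with hsdef
  set W' := (u ^ s) * W * (u ^ s)⁻¹ with hW'def
  have hW'E : ∀ k, W' (E u y (k + s)) = (u ^ s) (W (E u y k)) := by
    intro k
    rw [← E_pow, hW'def, conj_apply]
  have hsupp1 : ∀ z, W z ≠ z → ∃ i, i < p ∧ z = E u y (2 * i) := by
    intro z hz
    by_contra hcon
    push Not at hcon
    exact hz (hW_fix z hcon)
  have hsupp : ∀ z, W z ≠ z → W' z ≠ z → z = E u y s := by
    intro z hz hz'
    obtain ⟨i, hi, rfl⟩ := hsupp1 z hz
    have hz2 : W ((u ^ s)⁻¹ (E u y (2 * i))) ≠ (u ^ s)⁻¹ (E u y (2 * i)) := by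
      intro e
      apply hz'
      rw [hW'def]
      simp only [Perm.mul_apply]
      rw [e]
      simp
    obtain ⟨i', hi', hi2⟩ := hsupp1 _ hz2
    have h3 : E u y (2 * i) = E u y (2 * i' + s) := by
      rw [← E_pow, ← hi2]
      simp
    have := hinj _ _ (by omega) (by omega) h3
    have : i' = 0 := by omega
    subst this
    rw [h3]
    simp
  have hx1 : W (E u y s) = E u y (2 * q + 2) := by
    have := hW_even (q + 1) (by omega)
    rwa [show 2 * (q + 1) + 2 = s by omega, show 2 * (q + 1) = 2 * q + 2 by ring] at this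
  have hx2 : W' (E u y s) = E u y (4 * q + 8) := by
    have := hW'E 0
    rw [zero_add, hW_zero, E_pow] at this
    rw [this]
    congr 1
    omega
  have hWne : W (E u y s) ≠ E u y s := by
    rw [hx1]
    intro h'
    have := hinj _ _ (by omega) (by omega) h'
    omega
  have hW'ne : W' (E u y s) ≠ E u y s := by
    rw [hx2]
    intro h'
    have := hinj _ _ (by omega) (by omega) h'
    omega
  obtain ⟨c1, c2, c3, c4⟩ := comm_three W W' (E u y s) hWne hW'ne hsupp
  rw [hx1, hx2] at c2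
  rw [hx1] at c1
  rw [hx2] at c3
  rw [hx1, hx2] at c4
  have hH := conj_mem_closure_aux u W
  have hW'H : W' ∈ Subgroup.closure ({u, W} : Set (Perm X)) :=
    mul_mem (mul_mem (pow_mem hH.1 _) hH.2) (inv_mem (pow_mem hH.1 _))
  have hcH : ⁅W, W'⁆ ∈ Subgroup.closure ({u, W} : Set (Perm X)) := by
    rw [commutatorElement_def]
    exact mul_mem (mul_mem (mul_mem hH.2 hW'H) (inv_mem hH.2)) (inv_mem hW'H)
  set c := ⁅W, W'⁆ with hcdef
  set r := u ^ 2 with hrdef
  have hrH : r ∈ Subgroup.closure ({u, W} : Set (Perm X)) := pow_mem hH.1 _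
  have hc'H : r⁻¹ * c * r ∈ Subgroup.closure ({u, W} : Set (Perm X)) :=
    mul_mem (mul_mem (inv_mem hrH) hcH) hrH
  have hrE : ∀ k, r (E u y k) = E u y (k + 2) := fun k => E_pow u y 2 k
  have hrinv : ∀ k, r⁻¹ (E u y (k + 2)) = E u y k := fun k => by
    rw [Perm.inv_eq_iff_eq, hrE]
  have hc' : ∀ k l, c (E u y (k + 2)) = E u y (l + 2) →
      (r⁻¹ * c * r) (E u y k) = E u y l := by
    intro k l h
    simp only [Perm.mul_apply]
    rw [hrE, h, hrinv]
  have hc'fix : ∀ k, k < p ^ (a + 1 + 1) → k ≠ 2 * q + 2 → k ≠ 2 * q → k ≠ 4 * q + 6 →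
      (r⁻¹ * c * r) (E u y k) = E u y k := by
    intro k hk h1 h2 h3
    have : c (E u y (k + 2)) = E u y (k + 2) := by
      apply c4
      · intro e
        have e' : E u y (k + 2) = E u y (2 * q + 2 + 2) := by rw [e]
        have e2 := r.injective ((hrE k).trans (e'.trans (hrE _).symm))
        exact h1 (hinj _ _ hk (by omega) e2)
      · intro e
        have e' : E u y (k + 2) = E u y (2 * q + 2) := e
        have e2 := r.injective ((hrE k).trans (e'.trans (hrE _).symm))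
        exact h2 (hinj _ _ hk (by omega) e2)
      · intro e
        have e' : E u y (k + 2) = E u y (4 * q + 6 + 2) := e
        have e2 := r.injective ((hrE k).trans (e'.trans (hrE _).symm))
        exact h3 (hinj _ _ hk (by omega) e2)
    exact hc' k k this
  have hcfix : ∀ k, k < p ^ (a + 1 + 1) → k ≠ s → k ≠ 2 * q + 2 → k ≠ 4 * q + 8 →
      c (E u y k) = E u y k := by
    intro k hk h1 h2 h3
    apply c4
    · intro e
      exact h1 (hinj _ _ hk (by omega) e)
    · intro e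
      exact h2 (hinj _ _ hk (by omega) e)
    · intro e
      exact h3 (hinj _ _ hk (by omega) e)
  have ns : ¬ Group.IsSolvable (Subgroup.closure ({u, W} : Set (Perm X))) := by
    refine notSolv_twoThree _ hcH hc'H (c := E u y (2 * q + 2)) (c₁ := E u y (4 * q + 8))
      (c₂ := E u y s) (d₁ := E u y (2 * q)) (d₂ := E u y (4 * q + 6)) ?_ c2 c3 c1
      (hcfix _ (by omega) (by omega) (by omega) (by omega))
      (hcfix _ (by omega) (by omega) (by omega) (by omega))
      (hc' _ _ (by rw [show 2 * q + 2 + 2 = s by omega]; exact c1))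
      (hc'fix _ (by omega) (by omega) (by omega) (by omega))
      (hc'fix _ (by omega) (by omega) (by omega) (by omega))
      (hc' _ _ (by exact c2))
      (hc' _ _ (by rw [show 4 * q + 6 + 2 = 4 * q + 8 by omega,
        show 2 * q + 2 + 2 = s by omega]; exact c3))
    have : [E u y (2 * q + 2), E u y (4 * q + 8), E u y s, E u y (2 * q), E u y (4 * q + 6)] =
        [2 * q + 2, 4 * q + 8, s, 2 * q, 4 * q + 6].map (E u y) := rfl
    rw [this]
    refine List.Nodup.map_on ?_ ?_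
    · intro i hi j hj h
      simp only [List.mem_cons, List.not_mem_nil, or_false] at hi hj
      exact hinj i j (by omega) (by omega) h
    · simp only [List.nodup_cons, List.mem_cons, List.not_mem_nil, or_false, not_or,
        not_false_eq_true, List.nodup_nil, and_true]
      omega
  refine ⟨g, hg, ?_, ns⟩
  have hW1 : W (E u y 1) = E u y 1 := by
    apply hW_fix
    intro i hi e
    have := hinj _ _ (by omega) (by omega) e
    omega
  have hW2 : W (E u y 2) = E u y 0 := by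
    have := hW_even 0 (by omega)
    simpa using this
  have π1 : (u * W) (E u y 1) = E u y 2 := by
    rw [Perm.mul_apply, hW1, E_succ]
  have π2 : (u * W) (E u y 2) = E u y 1 := by
    rw [Perm.mul_apply, hW2, E_succ]
  have h2 : Nat.Coprime 2 p := (Nat.coprime_primes Nat.prime_two hp).2 (by omega)
  refine not_ppow_of_period _ (E u y 1) h2 ?_ ?_
  · rw [pow2_apply, π1, π2]
  · rw [π1]
    intro h'
    have := hinj _ _ (by omega) (by omega) h'
    omega


/-! ### `p = 3` -/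

theorem six_nodup (σ : Perm X) (y : X) (Q : ℕ) (hQ : 3 ≤ Q)
    (hinj : ∀ i j, i < 3 * Q → j < 3 * Q → E σ y i = E σ y j → i = j) :
    [E σ y 0, E σ y Q, E σ y (2 * Q), E σ y 1, E σ y (Q + 1), E σ y (2 * Q + 1)].Nodup := by
  have : [E σ y 0, E σ y Q, E σ y (2 * Q), E σ y 1, E σ y (Q + 1), E σ y (2 * Q + 1)] =
      [0, Q, 2 * Q, 1, Q + 1, 2 * Q + 1].map (E σ y) := rfl
  rw [this]
  refine List.Nodup.map_on ?_ ?_
  · intro i hi j hj h
    simp only [List.mem_cons, List.not_mem_nil, or_false] at hi hj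
    exact hinj i j (by omega) (by omega) h
  · simp only [List.nodup_cons, List.mem_cons, List.not_mem_nil, or_false, not_or,
      not_false_eq_true, List.nodup_nil, and_true]
    omega

theorem zeta_finish (B : Perm (Fin 6))
    (hB : ¬ Group.IsSolvable (Subgroup.closure ({pA6, B} : Set (Perm (Fin 6)))))
    {Q : ℕ} (hQ : 3 ≤ Q) {u : Perm X} (hu : u ^ (3 * Q) = 1) {y : X}
    (hinj : ∀ i j, i < 3 * Q → j < 3 * Q → E u y i = E u y j → i = j) {W W₀ : Perm X}
    (hW₀ : W₀ ∈ Subgroup.closure ({u, W} : Set (Perm X)))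
    (hb' : ∀ i, W₀ (![E u y 0, E u y Q, E u y (2 * Q), E u y 1, E u y (Q + 1), E u y (2 * Q + 1)] i) =
      ![E u y 0, E u y Q, E u y (2 * Q), E u y 1, E u y (Q + 1), E u y (2 * Q + 1)] (B i))
    (arrow1 : W (E u y (Q + 1)) = E u y 0) (arrow2 : W (E u y 1) = E u y Q) :
    (¬ ∃ k : ℕ, orderOf (u * W) = 3 ^ k) ∧
      ¬ Group.IsSolvable (Subgroup.closure ({u, W} : Set (Perm X))) := by
  have hH := conj_mem_closure_aux u W
  have e3 : ∀ k, E u y (3 * Q + k) = E u y k := by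
    intro k
    rw [← E_add, E_period hu]
  constructor
  · have π1 : (u * W) (E u y (Q + 1)) = E u y 1 := by
      rw [Perm.mul_apply, arrow1, E_succ]
    have π2 : (u * W) (E u y 1) = E u y (Q + 1) := by
      rw [Perm.mul_apply, arrow2, E_succ]
    refine not_ppow_of_period _ (E u y 1) (by decide : Nat.Coprime 2 3) ?_ ?_
    · rw [pow2_apply, π2, π1]
    · rw [π2]
      intro h'
      have := hinj _ _ (by omega) (by omega) h'
      omega
  · refine notSolv_six B hB _ (pow_mem hH.1 Q) hW₀ (six_nodup u y Q hQ hinj) ?_ ?_ ?_ ?_ ?_ ?_ hb'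
    · rw [E_pow, zero_add]
    · rw [E_pow, show Q + Q = 2 * Q by ring]
    · rw [E_pow, show 2 * Q + Q = 3 * Q + 0 by ring, e3]
    · rw [E_pow, add_comm]
    · rw [E_pow, show Q + 1 + Q = 2 * Q + 1 by ring]
    · rw [E_pow, show 2 * Q + 1 + Q = 3 * Q + 1 by ring, e3]

theorem pow3_eq_of_order {a : ℕ} {u : Perm X} (hu : orderOf u = 3 ^ (a + 1 + 1)) :
    u ^ (3 * 3 ^ (a + 1)) = 1 := by
  rw [show 3 * 3 ^ (a + 1) = 3 ^ (a + 1 + 1) by ring, ← hu, pow_orderOf_eq_one]

theorem case_zeta1 {a b : ℕ} {u w : Perm X} (hu : orderOf u = 3 ^ (a + 1 + 1))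
    (hw : orderOf w = 3 ^ (b + 1 + 1)) : ∃ g, Good 3 u w g := by
  have hp3 := Nat.prime_three
  obtain ⟨y, hy⟩ := exists_moved hp3 u hu
  obtain ⟨x, hx⟩ := exists_moved hp3 w hw
  set Q := 3 ^ (a + 1) with hQdef
  set L := 3 ^ (b + 1) with hLdef
  have hQ : 3 ≤ Q := by
    calc 3 = 3 ^ 1 := rfl
      _ ≤ 3 ^ (a + 1) := Nat.pow_le_pow_right (by norm_num) (by omega)
  have hL : 3 ≤ L := by
    calc 3 = 3 ^ 1 := rfl
      _ ≤ 3 ^ (b + 1) := Nat.pow_le_pow_right (by norm_num) (by omega)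
  have hPQ : 3 ^ (a + 1 + 1) = 3 * Q := by rw [hQdef]; ring
  have hPL : 3 ^ (b + 1 + 1) = 3 * L := by rw [hLdef]; ring
  have hinj : ∀ i j, i < 3 * Q → j < 3 * Q → E u y i = E u y j → i = j :=
    fun i j hi hj h => E_inj hp3 u hu y hy (by rw [hPQ]; exact hi) (by rw [hPQ]; exact hj) h
  have hinjw : ∀ i j, i < 3 * L → j < 3 * L → E w x i = E w x j → i = j :=
    fun i j hi hj h => E_inj hp3 w hw x hx (by rw [hPL]; exact hi) (by rw [hPL]; exact hj) h
  have huQ : u ^ (3 * Q) = 1 := pow3_eq_of_order hu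
  have hwL : w ^ (3 * L) = 1 := pow3_eq_of_order hw
  have hnu := six_nodup u y Q hQ hinj
  have hnw := six_nodup w x L hL hinjw
  have hι₂ : Injective ![E u y (Q + 1), E u y 1, E u y (2 * Q), E u y 0, E u y Q, E u y (2 * Q + 1)] := by
    apply inj_of_nodup6
    simp only [List.nodup_cons, List.mem_cons, not_or, List.not_mem_nil, not_false_eq_true,
      List.nodup_nil, and_true] at hnu ⊢
    grind
  have hs : E u y 2 ≠ E u y (Q + 2) := fun h => by
    have := hinj _ _ (by omega) (by omega) h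
    omega
  have hfree : ∀ k, k < 3 * Q → k ≠ 0 → k ≠ Q → k ≠ 2 * Q → k ≠ 1 → k ≠ Q + 1 → k ≠ 2 * Q + 1 →
      ∀ i, ![E u y (Q + 1), E u y 1, E u y (2 * Q), E u y 0, E u y Q, E u y (2 * Q + 1)] i ≠ E u y k := by
    intro k hk h0 h1 h2 h3 h4 h5 i e
    fin_cases i
    · exact h4 (hinj _ _ (by omega) hk e).symm
    · exact h3 (hinj _ _ (by omega) hk e).symm
    · exact h2 (hinj _ _ (by omega) hk e).symm
    · exact h0 (hinj _ _ (by omega) hk e).symm
    · exact h1 (hinj _ _ (by omega) hk e).symm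
    · exact h5 (hinj _ _ (by omega) hk e).symm
  obtain ⟨g, hg, hext⟩ := exists_even_ext' _ _ (inj_of_nodup6 hnw) hι₂ _ _ hs
    (hfree 2 (by omega) (by omega) (by omega) (by omega) (by omega) (by omega) (by omega))
    (hfree (Q + 2) (by omega) (by omega) (by omega) (by omega) (by omega) (by omega) (by omega))
  have g0 : g (E w x 0) = E u y (Q + 1) := hext 0
  have g1 : g (E w x L) = E u y 1 := hext 1
  have g2 : g (E w x (2 * L)) = E u y (2 * Q) := hext 2
  have g3 : g (E w x 1) = E u y 0 := hext 3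
  have g4 : g (E w x (L + 1)) = E u y Q := hext 4
  have g5 : g (E w x (2 * L + 1)) = E u y (2 * Q + 1) := hext 5
  have e3 : ∀ k, E w x (3 * L + k) = E w x k := by
    intro k
    rw [← E_add, E_period hwL]
  set W := g * w * g⁻¹ with hWdef
  have hH := conj_mem_closure_aux u W
  have hW₀ : W ^ L ∈ Subgroup.closure ({u, W} : Set (Perm X)) := pow_mem hH.2 L
  have hW₀E : ∀ k l, g (E w x (k + L)) = l → (W ^ L) (g (E w x k)) = l := by
    intro k l h
    rw [hWdef, conj_pow_apply, E_pow, h]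
  have w0 : (W ^ L) (E u y (Q + 1)) = E u y 1 := by
    rw [← g0]; apply hW₀E; rw [zero_add]; exact g1
  have w1 : (W ^ L) (E u y 1) = E u y (2 * Q) := by
    rw [← g1]; apply hW₀E; rw [show L + L = 2 * L by ring]; exact g2
  have w2 : (W ^ L) (E u y (2 * Q)) = E u y (Q + 1) := by
    rw [← g2]; apply hW₀E; rw [show 2 * L + L = 3 * L + 0 by ring, e3]; exact g0
  have w3 : (W ^ L) (E u y 0) = E u y Q := by
    rw [← g3]; apply hW₀E; rw [add_comm]; exact g4
  have w4 : (W ^ L) (E u y Q) = E u y (2 * Q + 1) := by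
    rw [← g4]; apply hW₀E; rw [show L + 1 + L = 2 * L + 1 by ring]; exact g5
  have w5 : (W ^ L) (E u y (2 * Q + 1)) = E u y 0 := by
    rw [← g5]; apply hW₀E; rw [show 2 * L + 1 + L = 3 * L + 1 by ring, e3]; exact g3
  have arrow1 : W (E u y (Q + 1)) = E u y 0 := by
    rw [← g0, hWdef, conj_apply, E_succ, zero_add, g3]
  have arrow2 : W (E u y 1) = E u y Q := by
    rw [← g1, hWdef, conj_apply, E_succ, g4]
  obtain ⟨r1, r2⟩ := zeta_finish pZ1 notSolv_Z1 hQ huQ hinj hW₀ (by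
    intro i
    fin_cases i
    exacts [w3, w4, w2, w1, w0, w5]) arrow1 arrow2
  exact ⟨g, hg, r1, r2⟩

theorem case_zeta2 {a : ℕ} {u w : Perm X} (hu : orderOf u = 3 ^ (a + 1 + 1))
    (hw : orderOf w = 3 ^ (0 + 1)) {x x₁ : X} (hx : w x ≠ x) (hx₁ : w x₁ ≠ x₁)
    (hsep : ∀ j, x₁ ≠ E w x j) : ∃ g, Good 3 u w g := by
  have hp3 := Nat.prime_three
  obtain ⟨y, hy⟩ := exists_moved hp3 u hu
  set Q := 3 ^ (a + 1) with hQdef
  have hQ : 3 ≤ Q := by
    calc 3 = 3 ^ 1 := rfl
      _ ≤ 3 ^ (a + 1) := Nat.pow_le_pow_right (by norm_num) (by omega)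
  have hPQ : 3 ^ (a + 1 + 1) = 3 * Q := by rw [hQdef]; ring
  have hinj : ∀ i j, i < 3 * Q → j < 3 * Q → E u y i = E u y j → i = j :=
    fun i j hi hj h => E_inj hp3 u hu y hy (by rw [hPQ]; exact hi) (by rw [hPQ]; exact hj) h
  have huQ : u ^ (3 * Q) = 1 := pow3_eq_of_order hu
  have hw3 : w ^ 3 = 1 := by
    have := pow_orderOf_eq_one w
    rwa [hw] at this
  have hnu := six_nodup u y Q hQ hinj
  have hinjw : ∀ z, w z ≠ z → ∀ i j, i < 3 → j < 3 → E w z i = E w z j → i = j :=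
    fun z hz i j hi hj h => E_inj hp3 w hw z (by simpa using hz) (by simpa using hi)
      (by simpa using hj) h
  have hnw : [E w x 0, E w x 1, E w x 2, E w x₁ 0, E w x₁ 1, E w x₁ 2].Nodup := by
    have a1 : E w x 0 ≠ E w x 1 := fun h => by
      have := hinjw x hx 0 1 (by omega) (by omega) h
      omega
    have a2 : E w x 0 ≠ E w x 2 := fun h => by
      have := hinjw x hx 0 2 (by omega) (by omega) h
      omega
    have a3 : E w x 1 ≠ E w x 2 := fun h => by
      have := hinjw x hx 1 2 (by omega) (by omega) h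
      omega
    have a4 : E w x₁ 0 ≠ E w x₁ 1 := fun h => by
      have := hinjw x₁ hx₁ 0 1 (by omega) (by omega) h
      omega
    have a5 : E w x₁ 0 ≠ E w x₁ 2 := fun h => by
      have := hinjw x₁ hx₁ 0 2 (by omega) (by omega) h
      omega
    have a6 : E w x₁ 1 ≠ E w x₁ 2 := fun h => by
      have := hinjw x₁ hx₁ 1 2 (by omega) (by omega) h
      omega
    have a7 : ∀ i j, i ≤ 3 → E w x j ≠ E w x₁ i := fun i j hi h =>
      hsep _ (E_sep hw3 hi h.symm)
    simp only [List.nodup_cons, List.mem_cons, not_or, List.not_mem_nil, not_false_eq_true,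
      List.nodup_nil, and_true]
    exact ⟨⟨a1, a2, a7 _ _ (by omega), a7 _ _ (by omega), a7 _ _ (by omega)⟩,
      ⟨a3, a7 _ _ (by omega), a7 _ _ (by omega), a7 _ _ (by omega)⟩,
      ⟨a7 _ _ (by omega), a7 _ _ (by omega), a7 _ _ (by omega)⟩, ⟨a4, a5⟩, a6⟩
  have hι₂ : Injective ![E u y (Q + 1), E u y 0, E u y (2 * Q), E u y 1, E u y Q, E u y (2 * Q + 1)] := by
    apply inj_of_nodup6
    simp only [List.nodup_cons, List.mem_cons, not_or, List.not_mem_nil, not_false_eq_true,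
      List.nodup_nil, and_true] at hnu ⊢
    grind
  have hs : E u y 2 ≠ E u y (Q + 2) := fun h => by
    have := hinj _ _ (by omega) (by omega) h
    omega
  have hfree : ∀ k, k < 3 * Q → k ≠ 0 → k ≠ Q → k ≠ 2 * Q → k ≠ 1 → k ≠ Q + 1 → k ≠ 2 * Q + 1 →
      ∀ i, ![E u y (Q + 1), E u y 0, E u y (2 * Q), E u y 1, E u y Q, E u y (2 * Q + 1)] i ≠ E u y k := by
    intro k hk h0 h1 h2 h3 h4 h5 i e
    fin_cases i
    · exact h4 (hinj _ _ (by omega) hk e).symm
    · exact h0 (hinj _ _ (by omega) hk e).symm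
    · exact h2 (hinj _ _ (by omega) hk e).symm
    · exact h3 (hinj _ _ (by omega) hk e).symm
    · exact h1 (hinj _ _ (by omega) hk e).symm
    · exact h5 (hinj _ _ (by omega) hk e).symm
  obtain ⟨g, hg, hext⟩ := exists_even_ext' _ _ (inj_of_nodup6 hnw) hι₂ _ _ hs
    (hfree 2 (by omega) (by omega) (by omega) (by omega) (by omega) (by omega) (by omega))
    (hfree (Q + 2) (by omega) (by omega) (by omega) (by omega) (by omega) (by omega) (by omega))
  have g0 : g (E w x 0) = E u y (Q + 1) := hext 0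
  have g1 : g (E w x 1) = E u y 0 := hext 1
  have g2 : g (E w x 2) = E u y (2 * Q) := hext 2
  have g3 : g (E w x₁ 0) = E u y 1 := hext 3
  have g4 : g (E w x₁ 1) = E u y Q := hext 4
  have g5 : g (E w x₁ 2) = E u y (2 * Q + 1) := hext 5
  set W := g * w * g⁻¹ with hWdef
  have hH := conj_mem_closure_aux u W
  have hstep : ∀ z k l m, g (E w z k) = l → g (E w z (k + 1)) = m → W l = m := by
    intro z k l m h1 h2
    rw [← h1, hWdef, conj_apply, E_succ, h2]
  have w0 : W (E u y (Q + 1)) = E u y 0 := hstep _ _ _ _ g0 g1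
  have w1 : W (E u y 0) = E u y (2 * Q) := hstep _ _ _ _ g1 g2
  have w2 : W (E u y (2 * Q)) = E u y (Q + 1) :=
    hstep x 2 _ _ g2 (by rw [show 2 + 1 = 3 by rfl, E_period hw3]; exact g0)
  have w3 : W (E u y 1) = E u y Q := hstep _ _ _ _ g3 g4
  have w4 : W (E u y Q) = E u y (2 * Q + 1) := hstep _ _ _ _ g4 g5
  have w5 : W (E u y (2 * Q + 1)) = E u y 1 :=
    hstep x₁ 2 _ _ g5 (by rw [show 2 + 1 = 3 by rfl, E_period hw3]; exact g3)
  obtain ⟨r1, r2⟩ := zeta_finish pZ2 notSolv_Z2 hQ huQ hinj hH.2 (by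
    intro i
    fin_cases i
    exacts [w1, w4, w2, w3, w0, w5]) w0 w3
  exact ⟨g, hg, r1, r2⟩


theorem two_orbit_nodup {σ : Perm X} (hσ : orderOf σ = 3 ^ (0 + 1)) {x x₁ : X} (hx : σ x ≠ x)
    (hx₁ : σ x₁ ≠ x₁) (hsep : ∀ j, x₁ ≠ E σ x j) :
    [E σ x 0, E σ x 1, E σ x 2, E σ x₁ 0, E σ x₁ 1, E σ x₁ 2].Nodup := by
  have hp3 := Nat.prime_three
  have hw3 : σ ^ 3 = 1 := by
    have := pow_orderOf_eq_one σ
    rwa [hσ] at this
  have hinjw : ∀ z, σ z ≠ z → ∀ i j, i < 3 → j < 3 → E σ z i = E σ z j → i = j :=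
    fun z hz i j hi hj h => E_inj hp3 σ hσ z (by simpa using hz) (by simpa using hi)
      (by simpa using hj) h
  have a1 : E σ x 0 ≠ E σ x 1 := fun h => by
    have := hinjw x hx 0 1 (by omega) (by omega) h
    omega
  have a2 : E σ x 0 ≠ E σ x 2 := fun h => by
    have := hinjw x hx 0 2 (by omega) (by omega) h
    omega
  have a3 : E σ x 1 ≠ E σ x 2 := fun h => by
    have := hinjw x hx 1 2 (by omega) (by omega) h
    omega
  have a4 : E σ x₁ 0 ≠ E σ x₁ 1 := fun h => by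
    have := hinjw x₁ hx₁ 0 1 (by omega) (by omega) h
    omega
  have a5 : E σ x₁ 0 ≠ E σ x₁ 2 := fun h => by
    have := hinjw x₁ hx₁ 0 2 (by omega) (by omega) h
    omega
  have a6 : E σ x₁ 1 ≠ E σ x₁ 2 := fun h => by
    have := hinjw x₁ hx₁ 1 2 (by omega) (by omega) h
    omega
  have a7 : ∀ i j, i ≤ 3 → E σ x j ≠ E σ x₁ i := fun i j hi h =>
    hsep _ (E_sep hw3 hi h.symm)
  simp only [List.nodup_cons, List.mem_cons, not_or, List.not_mem_nil, not_false_eq_true,
    List.nodup_nil, and_true]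
  exact ⟨⟨a1, a2, a7 _ _ (by omega), a7 _ _ (by omega), a7 _ _ (by omega)⟩,
    ⟨a3, a7 _ _ (by omega), a7 _ _ (by omega), a7 _ _ (by omega)⟩,
    ⟨a7 _ _ (by omega), a7 _ _ (by omega), a7 _ _ (by omega)⟩, ⟨a4, a5⟩, a6⟩

/-- A conjugate of a single cycle fixes everything off the image of the cycle. -/
theorem conj_fix {p : ℕ} (hp : 0 < p) {w g : Perm X} (hw : orderOf w = p) {x : X}
    (hpure : ∀ z, (∀ j, z ≠ E w x j) → w z = z) {z : X}
    (hz : ∀ j, j < p → z ≠ g (E w x j)) : (g * w * g⁻¹) z = z := by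
  have hv : ∀ j, g⁻¹ z ≠ E w x j := by
    intro j hj
    have hj' : g⁻¹ z = E w x (j % p) := by
      rw [hj, ← E_mod w x j, hw]
    have h3 : z = g (g⁻¹ z) := by simp
    rw [hj'] at h3
    exact hz _ (Nat.mod_lt _ hp) h3
  have := hpure _ hv
  simp only [Perm.mul_apply]
  rw [this]
  simp

/-- `p = 3`: two single 3-cycles. -/
theorem case_alphaA (hX : 5 ≤ Fintype.card X) {u w : Perm X} (hu : orderOf u = 3 ^ (0 + 1))
    (hw : orderOf w = 3 ^ (0 + 1)) {x y : X} (hy : u y ≠ y) (hx : w x ≠ x)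
    (hpu : ∀ z, (∀ j, z ≠ E u y j) → u z = z) (hpw : ∀ z, (∀ j, z ≠ E w x j) → w z = z) :
    ∃ g, Good 3 u w g := by
  have hp3 := Nat.prime_three
  have hu3 : u ^ 3 = 1 := by
    have := pow_orderOf_eq_one u
    rwa [hu] at this
  have hw3 : w ^ 3 = 1 := by
    have := pow_orderOf_eq_one w
    rwa [hw] at this
  have hiu : ∀ i j, i < 3 → j < 3 → E u y i = E u y j → i = j :=
    fun i j hi hj h => E_inj hp3 u hu y (by simpa using hy) (by simpa using hi)
      (by simpa using hj) h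
  have hiw : ∀ i j, i < 3 → j < 3 → E w x i = E w x j → i = j :=
    fun i j hi hj h => E_inj hp3 w hw x (by simpa using hx) (by simpa using hi)
      (by simpa using hj) h
  let S : Finset X := {E u y 0, E u y 1, E u y 2}
  have hS : S.card ≤ 3 := Finset.card_le_three
  have hSc : 1 < Sᶜ.card := by
    rw [Finset.card_compl]
    omega
  obtain ⟨d₁, hd₁, d₂, hd₂, hd⟩ := Finset.one_lt_card.1 hSc
  have hnot : ∀ d, d ∈ Sᶜ → ∀ j, d ≠ E u y j := by
    intro d hd' j hj
    have hj' : d = E u y (j % 3) := by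
      rw [hj, ← E_mod u y j, hu, zero_add, pow_one]
    have h3 : j % 3 < 3 := Nat.mod_lt _ (by norm_num)
    rw [Finset.mem_compl] at hd'
    apply hd'
    simp only [S, Finset.mem_insert, Finset.mem_singleton]
    interval_cases (j % 3)
    · exact Or.inl hj'
    · exact Or.inr (Or.inl hj')
    · exact Or.inr (Or.inr hj')
  have n1 := hnot d₁ hd₁
  have n2 := hnot d₂ hd₂
  have hι₁ : Injective (fun i : Fin 3 => E w x i.1) := fun i j h => Fin.ext (hiw _ _ i.2 j.2 h)
  have hι₂ : Injective ![y, d₁, d₂] := by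
    apply List.nodup_ofFn.1
    simp only [List.ofFn_succ, List.ofFn_zero, Matrix.cons_val_zero, Matrix.cons_val_succ,
      List.nodup_cons, List.mem_cons, not_or, List.not_mem_nil, not_false_eq_true,
      List.nodup_nil, and_true]
    exact ⟨⟨(n1 0).symm, (n2 0).symm⟩, hd⟩
  have hs : E u y 1 ≠ E u y 2 := fun h => by
    have := hiu 1 2 (by omega) (by omega) h
    omega
  have h10 : E u y 0 ≠ E u y 1 := fun h => by
    have := hiu 0 1 (by omega) (by omega) h
    omega
  have h20 : E u y 0 ≠ E u y 2 := fun h => by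
    have := hiu 0 2 (by omega) (by omega) h
    omega
  obtain ⟨g, hg, hext⟩ := exists_even_ext' (fun i : Fin 3 => E w x i.1) ![y, d₁, d₂] hι₁ hι₂
    (E u y 1) (E u y 2) hs
    (by
      intro i
      fin_cases i
      · exact h10
      · exact n1 1
      · exact n2 1)
    (by
      intro i
      fin_cases i
      · exact h20
      · exact n1 2
      · exact n2 2)
  have g0 : g (E w x 0) = y := hext 0
  have g1 : g (E w x 1) = d₁ := hext 1
  have g2 : g (E w x 2) = d₂ := hext 2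
  set W := g * w * g⁻¹ with hWdef
  have w0 : W y = d₁ := by rw [← g0, hWdef, conj_apply, E_succ, g1]
  have w1 : W d₁ = d₂ := by rw [← g1, hWdef, conj_apply, E_succ, g2]
  have w2 : W d₂ = y := by
    rw [← g2, hWdef, conj_apply, E_succ, show 2 + 1 = 3 by rfl, E_period hw3, ← g0]; rfl
  have wfix : ∀ k, k = 1 ∨ k = 2 → W (E u y k) = E u y k := by
    intro k hk
    apply conj_fix (p := 3) (by norm_num) (by rw [hw]; norm_num) hpw
    intro j hj e
    interval_cases j
    · rw [g0] at e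
      have := hiu k 0 (by omega) (by omega) e
      omega
    · rw [g1] at e
      exact n1 k e.symm
    · rw [g2] at e
      exact n2 k e.symm
  have u1 := hpu d₁ n1
  have u2 := hpu d₂ n2
  have hH := conj_mem_closure_aux u W
  have ut : u (E u y 2) = E u y 0 := by
    rw [E_succ, show 2 + 1 = 3 by rfl, E_period hu3]; rfl
  refine ⟨g, hg, ?_, ?_⟩
  · have π0 : (u * W) (E u y 0) = d₁ := by
      show u (W y) = d₁
      rw [w0, u1]
    have π1 : (u * W) d₁ = d₂ := by
      rw [Perm.mul_apply, w1, u2]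
    have π2 : (u * W) d₂ = E u y 1 := by
      rw [Perm.mul_apply, w2]
      exact E_succ u y 0
    have π3 : (u * W) (E u y 1) = E u y 2 := by
      rw [Perm.mul_apply, wfix 1 (Or.inl rfl)]
      exact E_succ u y 1
    have π4 : (u * W) (E u y 2) = E u y 0 := by
      rw [Perm.mul_apply, wfix 2 (Or.inr rfl), ut]
    refine not_ppow_of_period _ (E u y 0) (by decide : Nat.Coprime 5 3) ?_ ?_
    · rw [pow5_apply, π0, π1, π2, π3, π4]
    · rw [π0]
      exact (n1 0)
  · refine notSolv_twoThree _ hH.1 hH.2 (c := E u y 0) (c₁ := E u y 1) (c₂ := E u y 2) (d₁ := d₁)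
      (d₂ := d₂) ?_ (E_succ u y 0) (E_succ u y 1) ut u1 u2 w0 (wfix 1 (Or.inl rfl))
      (wfix 2 (Or.inr rfl)) w1 w2
    simp only [List.nodup_cons, List.mem_cons, not_or, List.not_mem_nil, not_false_eq_true,
      List.nodup_nil, and_true]
    exact ⟨⟨h10, h20, (n1 0).symm, (n2 0).symm⟩, ⟨hs, (n1 1).symm, (n2 1).symm⟩,
      ⟨(n1 2).symm, (n2 2).symm⟩, hd⟩

/-- `p = 3`: `u` has two 3-cycles, `w` is a single 3-cycle. -/
theorem case_alphaB {u w : Perm X} (hu : orderOf u = 3 ^ (0 + 1))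
    (hw : orderOf w = 3 ^ (0 + 1)) {x y y₁ : X} (hy : u y ≠ y) (hy₁ : u y₁ ≠ y₁)
    (hsep : ∀ j, y₁ ≠ E u y j) (hx : w x ≠ x)
    (hpw : ∀ z, (∀ j, z ≠ E w x j) → w z = z) :
    ∃ g, Good 3 u w g := by
  have hp3 := Nat.prime_three
  have hu3 : u ^ 3 = 1 := by
    have := pow_orderOf_eq_one u
    rwa [hu] at this
  have hw3 : w ^ 3 = 1 := by
    have := pow_orderOf_eq_one w
    rwa [hw] at this
  have hiw : ∀ i j, i < 3 → j < 3 → E w x i = E w x j → i = j :=
    fun i j hi hj h => E_inj hp3 w hw x (by simpa using hx) (by simpa using hi)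
      (by simpa using hj) h
  have hnu := two_orbit_nodup hu hy hy₁ hsep
  have hn := hnu
  simp only [List.nodup_cons, List.mem_cons, not_or, List.not_mem_nil, not_false_eq_true,
    List.nodup_nil, and_true] at hn
  obtain ⟨⟨n01, n02, n03, n04, n05⟩, ⟨n12, n13, n14, n15⟩, ⟨n23, n24, n25⟩, ⟨n34, n35⟩, n45⟩ := hn
  have hι₁ : Injective (fun i : Fin 3 => E w x i.1) := fun i j h => Fin.ext (hiw _ _ i.2 j.2 h)
  have hι₂ : Injective ![E u y 0, E u y 1, E u y₁ 0] := by
    apply List.nodup_ofFn.1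
    simp only [List.ofFn_succ, List.ofFn_zero, Matrix.cons_val_zero, Matrix.cons_val_succ,
      List.nodup_cons, List.mem_cons, not_or, List.not_mem_nil, not_false_eq_true,
      List.nodup_nil, and_true]
    exact ⟨⟨n01, n03⟩, n13⟩
  obtain ⟨g, hg, hext⟩ := exists_even_ext' (fun i : Fin 3 => E w x i.1) _ hι₁ hι₂
    (E u y 2) (E u y₁ 1) n24
    (by
      intro i
      fin_cases i
      · exact n02
      · exact n12
      · exact (Ne.symm n23))
    (by
      intro i
      fin_cases i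
      · exact n04
      · exact n14
      · exact n34)
  have g0 : g (E w x 0) = E u y 0 := hext 0
  have g1 : g (E w x 1) = E u y 1 := hext 1
  have g2 : g (E w x 2) = E u y₁ 0 := hext 2
  set W := g * w * g⁻¹ with hWdef
  have w0 : W (E u y 0) = E u y 1 := by rw [← g0, hWdef, conj_apply, E_succ, g1]
  have w1 : W (E u y 1) = E u y₁ 0 := by rw [← g1, hWdef, conj_apply, E_succ, g2]
  have w2 : W (E u y₁ 0) = E u y 0 := by
    rw [← g2, hWdef, conj_apply, E_succ, show 2 + 1 = 3 by rfl, E_period hw3, ← g0]; rfl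
  have wfix : ∀ z, z ≠ E u y 0 → z ≠ E u y 1 → z ≠ E u y₁ 0 → W z = z := by
    intro z h0 h1 h2
    apply conj_fix (p := 3) (by norm_num) (by rw [hw]; norm_num) hpw
    intro j hj e
    interval_cases j
    · rw [g0] at e
      exact h0 e
    · rw [g1] at e
      exact h1 e
    · rw [g2] at e
      exact h2 e
  have w3 : W (E u y 2) = E u y 2 := wfix _ (Ne.symm n02) (Ne.symm n12) n23
  have w4 : W (E u y₁ 1) = E u y₁ 1 := wfix _ (Ne.symm n04) (Ne.symm n14) (Ne.symm n34)
  have w5 : W (E u y₁ 2) = E u y₁ 2 := wfix _ (Ne.symm n05) (Ne.symm n15) (Ne.symm n35)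
  have hH := conj_mem_closure_aux u W
  have ut : u (E u y 2) = E u y 0 := by
    rw [E_succ, show 2 + 1 = 3 by rfl, E_period hu3]; rfl
  have ut₁ : u (E u y₁ 2) = E u y₁ 0 := by
    rw [E_succ, show 2 + 1 = 3 by rfl, E_period hu3]; rfl
  refine ⟨g, hg, ?_, ?_⟩
  · have π0 : (u * W) (E u y 0) = E u y 2 := by
      rw [Perm.mul_apply, w0]
      exact E_succ u y 1
    have π2 : (u * W) (E u y 2) = E u y 0 := by
      rw [Perm.mul_apply, w3, ut]
    refine not_ppow_of_period _ (E u y 0) (by decide : Nat.Coprime 2 3) ?_ ?_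
    · rw [pow2_apply, π0, π2]
    · rw [π0]
      exact (Ne.symm n02)
  · refine notSolv_six pB6 notSolv_B6 _ hH.1 hH.2 hnu (E_succ u y 0) (E_succ u y 1) ut
      (E_succ u y₁ 0) (E_succ u y₁ 1) ut₁ ?_
    intro i
    fin_cases i
    exacts [w0, w1, w3, w2, w4, w5]

/-- `p = 3`: both have at least two 3-cycles. -/
theorem case_alphaD {u w : Perm X} (hu : orderOf u = 3 ^ (0 + 1))
    (hw : orderOf w = 3 ^ (0 + 1)) {x x₁ y y₁ : X} (hy : u y ≠ y) (hy₁ : u y₁ ≠ y₁)
    (hsep : ∀ j, y₁ ≠ E u y j) (hx : w x ≠ x) (hx₁ : w x₁ ≠ x₁)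
    (hsep' : ∀ j, x₁ ≠ E w x j) :
    ∃ g, Good 3 u w g := by
  have hu3 : u ^ 3 = 1 := by
    have := pow_orderOf_eq_one u
    rwa [hu] at this
  have hw3 : w ^ 3 = 1 := by
    have := pow_orderOf_eq_one w
    rwa [hw] at this
  have hnu := two_orbit_nodup hu hy hy₁ hsep
  have hnw := two_orbit_nodup hw hx hx₁ hsep'
  have hn := hnu
  simp only [List.nodup_cons, List.mem_cons, not_or, List.not_mem_nil, not_false_eq_true,
    List.nodup_nil, and_true] at hn
  obtain ⟨⟨n01, n02, n03, n04, n05⟩, ⟨n12, n13, n14, n15⟩, ⟨n23, n24, n25⟩, ⟨n34, n35⟩, n45⟩ := hn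
  have hι₂ : Injective ![E u y 0, E u y 1, E u y₁ 0, E u y 2, E u y₁ 2, E u y₁ 1] := by
    apply inj_of_nodup6
    simp only [List.nodup_cons, List.mem_cons, not_or, List.not_mem_nil, not_false_eq_true,
      List.nodup_nil, and_true]
    grind
  obtain ⟨g, hg, hext⟩ := exists_even_ext _ _ (inj_of_nodup6 hnw) hι₂ (E u y 0) (E u y₁ 1) n04
  set W := g * w * g⁻¹ with hWdef
  have hH := conj_mem_closure_aux u W
  have ut : u (E u y 2) = E u y 0 := by
    rw [E_succ, show 2 + 1 = 3 by rfl, E_period hu3]; rfl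
  have ut₁ : u (E u y₁ 2) = E u y₁ 0 := by
    rw [E_succ, show 2 + 1 = 3 by rfl, E_period hu3]; rfl
  have ua : ∀ z k, u (E u z k) = E u z (k + 1) := E_succ u
  have hstep : ∀ z k l m, g (E w z k) = l → g (E w z (k + 1)) = m → W l = m := by
    intro z k l m h1 h2
    rw [← h1, hWdef, conj_apply, E_succ, h2]
  have hstep3 : ∀ z l m, g (E w z 2) = l → g (E w z 0) = m → W l = m := by
    intro z l m h1 h2
    refine hstep z 2 l m h1 ?_
    rw [show 2 + 1 = 3 by rfl, E_period hw3]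
    exact h2
  refine ⟨g, hg, ?_⟩
  rcases hext with hext | hext
  · have g0 : g (E w x 0) = E u y 0 := hext 0
    have g1 : g (E w x 1) = E u y 1 := hext 1
    have g2 : g (E w x 2) = E u y₁ 0 := hext 2
    have g3 : g (E w x₁ 0) = E u y 2 := hext 3
    have g4 : g (E w x₁ 1) = E u y₁ 2 := hext 4
    have g5 : g (E w x₁ 2) = E u y₁ 1 := hext 5
    have w0 := hstep _ _ _ _ g0 g1
    have w1 := hstep _ _ _ _ g1 g2
    have w2 := hstep3 _ _ _ g2 g0
    have w3 := hstep _ _ _ _ g3 g4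
    have w4 := hstep _ _ _ _ g4 g5
    have w5 := hstep3 _ _ _ g5 g3
    constructor
    · have π0 : (u * W) (E u y 0) = E u y 2 := by
        rw [Perm.mul_apply, w0]; exact ua _ 1
      have π1 : (u * W) (E u y 2) = E u y₁ 0 := by
        rw [Perm.mul_apply, w3, ut₁]
      have π2 : (u * W) (E u y₁ 0) = E u y 1 := by
        rw [Perm.mul_apply, w2]; exact ua _ 0
      have π3 : (u * W) (E u y 1) = E u y₁ 1 := by
        rw [Perm.mul_apply, w1]; exact ua _ 0
      have π4 : (u * W) (E u y₁ 1) = E u y 0 := by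
        rw [Perm.mul_apply, w5, ut]
      refine not_ppow_of_period _ (E u y 0) (by decide : Nat.Coprime 5 3) ?_ ?_
      · rw [pow5_apply, π0, π1, π2, π3, π4]
      · rw [π0]
        exact (Ne.symm n02)
    · refine notSolv_six pD1 notSolv_D1 _ hH.1 hH.2 hnu (ua _ 0) (ua _ 1) ut (ua _ 0) (ua _ 1)
        ut₁ ?_
      intro i
      fin_cases i
      exacts [w0, w1, w3, w2, w5, w4]
  · have sw : ∀ z, z ≠ E u y 0 → z ≠ E u y₁ 1 → swap (E u y 0) (E u y₁ 1) z = z :=
      fun z h1 h2 => swap_apply_of_ne_of_ne h1 h2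
    have g0 : g (E w x 0) = E u y₁ 1 := (hext 0).trans (swap_apply_left _ _)
    have g1 : g (E w x 1) = E u y 1 := (hext 1).trans (sw _ (Ne.symm n01) n14)
    have g2 : g (E w x 2) = E u y₁ 0 := (hext 2).trans (sw _ (Ne.symm n03) n34)
    have g3 : g (E w x₁ 0) = E u y 2 := (hext 3).trans (sw _ (Ne.symm n02) n24)
    have g4 : g (E w x₁ 1) = E u y₁ 2 := (hext 4).trans (sw _ (Ne.symm n05) (Ne.symm n45))
    have g5 : g (E w x₁ 2) = E u y 0 := (hext 5).trans (swap_apply_right _ _)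
    have w0 := hstep _ _ _ _ g0 g1
    have w1 := hstep _ _ _ _ g1 g2
    have w2 := hstep3 _ _ _ g2 g0
    have w3 := hstep _ _ _ _ g3 g4
    have w4 := hstep _ _ _ _ g4 g5
    have w5 := hstep3 _ _ _ g5 g3
    constructor
    · have π0 : (u * W) (E u y 1) = E u y₁ 1 := by
        rw [Perm.mul_apply, w1]; exact ua _ 0
      have π1 : (u * W) (E u y₁ 1) = E u y 2 := by
        rw [Perm.mul_apply, w0]; exact ua _ 1
      have π2 : (u * W) (E u y 2) = E u y₁ 0 := by
        rw [Perm.mul_apply, w3, ut₁]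
      have π3 : (u * W) (E u y₁ 0) = E u y₁ 2 := by
        rw [Perm.mul_apply, w2]; exact ua _ 1
      have π4 : (u * W) (E u y₁ 2) = E u y 1 := by
        rw [Perm.mul_apply, w4]; exact ua _ 0
      refine not_ppow_of_period _ (E u y 1) (by decide : Nat.Coprime 5 3) ?_ ?_
      · rw [pow5_apply, π0, π1, π2, π3, π4]
      · rw [π0]
        exact (Ne.symm n14)
    · refine notSolv_six pD2 notSolv_D2 _ hH.1 hH.2 hnu (ua _ 0) (ua _ 1) ut (ua _ 0) (ua _ 1)
        ut₁ ?_
      intro i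
      fin_cases i
      exacts [w5, w1, w3, w2, w0, w4]

theorem case_alpha (hX : 5 ≤ Fintype.card X) {u w : Perm X} (hu : orderOf u = 3 ^ (0 + 1))
    (hw : orderOf w = 3 ^ (0 + 1)) : ∃ g, Good 3 u w g := by
  obtain ⟨y, hy⟩ := exists_moved Nat.prime_three u hu
  obtain ⟨x, hx⟩ := exists_moved Nat.prime_three w hw
  simp only [pow_zero, pow_one] at hy hx
  by_cases hU : ∃ y₁, u y₁ ≠ y₁ ∧ ∀ j, y₁ ≠ E u y j
  · obtain ⟨y₁, h1, h2⟩ := hU
    by_cases hW : ∃ x₁, w x₁ ≠ x₁ ∧ ∀ j, x₁ ≠ E w x j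
    · obtain ⟨x₁, h3, h4⟩ := hW
      exact case_alphaD hu hw hy h1 h2 hx h3 h4
    · push Not at hW
      exact case_alphaB hu hw hy h1 h2 hx (fun z hz => by
        by_contra hne
        obtain ⟨j, hj⟩ := hW z hne
        exact hz j hj)
  · push Not at hU
    have hpu : ∀ z, (∀ j, z ≠ E u y j) → u z = z := fun z hz => by
      by_contra hne
      obtain ⟨j, hj⟩ := hU z hne
      exact hz j hj
    by_cases hW : ∃ x₁, w x₁ ≠ x₁ ∧ ∀ j, x₁ ≠ E w x j
    · obtain ⟨x₁, h3, h4⟩ := hW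
      obtain ⟨g, hg⟩ := (case_alphaB (u := w) (w := u) hw hu hx h3 h4 hy hpu)
      exact ⟨g⁻¹, hg.symm⟩
    · push Not at hW
      exact case_alphaA hX hu hw hy hx hpu (fun z hz => by
        by_contra hne
        obtain ⟨j, hj⟩ := hW z hne
        exact hz j hj)

theorem case_big_small {p a : ℕ} (hp : p.Prime) (hp3 : 3 ≤ p) {u w : Perm X}
    (hu : orderOf u = p ^ (a + 1 + 1)) (hw : orderOf w = p ^ (0 + 1)) : ∃ g, Good p u w g := by
  obtain ⟨x, hx⟩ := exists_moved hp w hw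
  by_cases h : ∃ x₁, w x₁ ≠ x₁ ∧ ∀ j, x₁ ≠ E w x j
  · obtain ⟨x₁, h1, h2⟩ := h
    rcases eq_or_ne p 3 with rfl | hne
    · exact case_zeta2 hu hw (by simpa using hx) h1 h2
    · have h5 : 5 ≤ p := by
        by_contra hcon
        have : p = 4 := by omega
        subst this
        exact absurd hp (by norm_num)
      have hwp : w ^ p = 1 := by
        have := pow_orderOf_eq_one w
        rwa [hw, zero_add, pow_one] at this
      refine case_arrows hp h5 hu hw hx (x₁ := x₁) ?_ ?_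
      · intro i j hij
        have := E_inj hp w hw x₁ (by simpa using h1) (i := i.1) (j := j.1)
          (by have := i.2; simp only [zero_add, pow_one]; omega)
          (by have := j.2; simp only [zero_add, pow_one]; omega) hij
        exact Fin.ext this
      · intro i j hj e
        simp only [pow_zero, pow_one] at e
        exact h2 _ (E_sep hwp (by have := i.2; omega) e)
  · push Not at h
    obtain ⟨q, rfl⟩ : ∃ q, p = q + 3 := ⟨p - 3, by omega⟩
    exact case_eps hp hu hw (x := x) (fun z hz => by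
      by_contra hne
      obtain ⟨j, hj⟩ := h z hne
      exact hz j hj)

theorem case_big_big {p a b : ℕ} (hp : p.Prime) (hp3 : 3 ≤ p) {u w : Perm X}
    (hu : orderOf u = p ^ (a + 1 + 1)) (hw : orderOf w = p ^ (b + 1 + 1)) : ∃ g, Good p u w g := by
  rcases eq_or_ne p 3 with rfl | hne
  · exact case_zeta1 hu hw
  · have h5 : 5 ≤ p := by
      by_contra hcon
      have : p = 4 := by omega
      subst this
      exact absurd hp (by norm_num)
    obtain ⟨x, hx⟩ := exists_moved hp w hw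
    have hL : 5 ≤ p ^ (b + 1) := by
      calc 5 ≤ p := h5
        _ = p ^ 1 := (pow_one p).symm
        _ ≤ p ^ (b + 1) := Nat.pow_le_pow_right hp.pos (by omega)
    have hLP : p ^ (b + 1 + 1) = p ^ (b + 1) * p := pow_succ _ _
    have hPbig : 25 ≤ p ^ (b + 1 + 1) := by rw [hLP]; nlinarith
    have e : ∀ i, E w (w x) i = E w x (i + 1) := by
      intro i
      have := E_add w x 1 i
      rw [add_comm] at this
      rw [← this]
      rfl
    refine case_arrows hp h5 hu hw hx (x₁ := w x) ?_ ?_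
    · intro i j hij
      simp only [e] at hij
      have := E_inj hp w hw x hx (i := i.1 + 1) (j := j.1 + 1)
        (by have := i.2; omega) (by have := j.2; omega) hij
      exact Fin.ext (by omega)
    · intro i j hj h'
      rw [e, E_pow_base] at h'
      have hlt : p ^ (b + 1) * j < p ^ (b + 1 + 1) := by
        rw [hLP]
        exact Nat.mul_lt_mul_of_pos_left hj (by omega)
      have hi := i.2
      have := E_inj hp w hw x hx (by omega) hlt h'
      rcases Nat.eq_zero_or_pos j with rfl | hj0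
      · simp at this
      · have h6 : p ^ (b + 1) ≤ p ^ (b + 1) * j := Nat.le_mul_of_pos_right _ hj0
        omega

theorem main_perm {p : ℕ} (hp : p.Prime) (hp3 : 3 ≤ p) (hX : 5 ≤ Fintype.card X) {u w : Perm X}
    (hu1 : u ≠ 1) (hw1 : w ≠ 1) (hu : ∃ k, orderOf u = p ^ k) (hw : ∃ k, orderOf w = p ^ k) :
    ∃ g, Good p u w g := by
  obtain ⟨k, hk⟩ := hu
  obtain ⟨l, hl⟩ := hw
  have hk0 : k ≠ 0 := by
    rintro rfl
    exact hu1 (orderOf_eq_one_iff.1 (by simpa using hk))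
  have hl0 : l ≠ 0 := by
    rintro rfl
    exact hw1 (orderOf_eq_one_iff.1 (by simpa using hl))
  obtain ⟨a, rfl⟩ := Nat.exists_eq_succ_of_ne_zero hk0
  obtain ⟨b, rfl⟩ := Nat.exists_eq_succ_of_ne_zero hl0
  rcases a with _ | a <;> rcases b with _ | b
  · rcases eq_or_ne p 3 with rfl | hne
    · exact case_alpha hX hk hl
    · have h5 : 5 ≤ p := by
        by_contra hcon
        have : p = 4 := by omega
        subst this
        exact absurd hp (by norm_num)
      exact case_beta hp h5 hk hl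
  · obtain ⟨g, hg⟩ := case_big_small hp hp3 hl hk
    exact ⟨g⁻¹, hg.symm⟩
  · exact case_big_small hp hp3 hk hl
  · exact case_big_big hp hp3 hk hl

end Cfsg.Agent.H28.AltBS
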