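import Mathlib
import Cfsg.Agent.Lib.OddLocalA

/-!
# Chief factors: layers, quotients and `p`-central groups

A chief factor `H/K` of `G` lies in one layer of any normal series.  If `R` is a normal `p`-subgroup
(`p` odd) all of whose elements of order `p` are central in `R`, every chief factor of `G` inside `R`
has order at most the largest order of a subgroup of exponent `p` of `R`.
-/

set_option autoImplicit false

namespace Cfsg.Agent.H28.ChiefRank

open Subgroup

universe u

section chief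

variable {G : Type u} [Group G]

/-- `H/K` is a chief factor of `G`. -/
structure ChiefF (K H : Subgroup G) : Prop where
  nK : K.Normal
  nH : H.Normal
  lt : K < H
  irr : ∀ L : Subgroup G, L.Normal → K ≤ L → L ≤ H → L = K ∨ L = H

theorem ChiefF.dich {K H : Subgroup G} (c : ChiefF K H) (L : Subgroup G) [hL : L.Normal] :
    H ⊓ L ≤ K ∨ K ⊔ (H ⊓ L) = H := by
  have := c.nK
  have := c.nH
  rcases c.irr (K ⊔ (H ⊓ L)) inferInstance le_sup_left (sup_le c.lt.le inf_le_left) with h | h
  · left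
    exact sup_eq_left.mp h
  · right
    exact h

theorem mem_sup_normal {K L : Subgroup G} [K.Normal] {x : G} (hx : x ∈ K ⊔ L) :
    ∃ k ∈ K, ∃ l ∈ L, k * l = x := by
  rw [← SetLike.mem_coe, Subgroup.normal_mul K L, Set.mem_mul] at hx
  exact hx

theorem sup_inf_eq_of_le {K H L : Subgroup G} [K.Normal] (hKH : K ≤ H) :
    (K ⊔ L) ⊓ H = K ⊔ (H ⊓ L) := by
  apply le_antisymm
  · intro x hx
    obtain ⟨hx1, hx2⟩ := hx
    obtain ⟨k, hk, l, hl, rfl⟩ := mem_sup_normal hx1
    have hlH : l ∈ H := by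
      have : l = k⁻¹ * (k * l) := by group
      rw [this]
      exact H.mul_mem (H.inv_mem (hKH hk)) hx2
    exact Subgroup.mul_mem_sup hk ⟨hlH, hl⟩
  · refine sup_le (le_inf le_sup_left hKH) ?_
    intro x hx
    exact ⟨Subgroup.mem_sup_right hx.2, hx.1⟩

/-- Restriction of a chief factor to a normal subgroup. -/
theorem ChiefF.restrict {K H : Subgroup G} (c : ChiefF K H) (L : Subgroup G) [hL : L.Normal]
    (h : K ⊔ (H ⊓ L) = H) : ChiefF (K ⊓ L) (H ⊓ L) ∧ (K ⊓ L).relIndex (H ⊓ L) = K.relIndex H := by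
  have := c.nK
  have := c.nH
  have hKH := c.lt.le
  have hidx : (K ⊓ L).relIndex (H ⊓ L) = K.relIndex H := by
    have h1 : K ⊓ L ⊓ (H ⊓ L) = K ⊓ (H ⊓ L) := by
      ext x
      simp only [mem_inf]
      constructor
      · rintro ⟨⟨a, b⟩, c, d⟩
        exact ⟨a, c, d⟩
      · rintro ⟨a, c, d⟩
        exact ⟨⟨a, d⟩, c, d⟩
    calc (K ⊓ L).relIndex (H ⊓ L) = (K ⊓ L ⊓ (H ⊓ L)).relIndex (H ⊓ L) :=
          (Subgroup.inf_relIndex_right _ _).symm
      _ = (K ⊓ (H ⊓ L)).relIndex (H ⊓ L) := by rw [h1]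
      _ = K.relIndex (H ⊓ L) := Subgroup.inf_relIndex_right _ _
      _ = K.relIndex (K ⊔ (H ⊓ L)) := (Subgroup.relIndex_sup_left _ _).symm
      _ = K.relIndex H := by rw [h]
  refine ⟨⟨inferInstance, inferInstance, ?_, ?_⟩, hidx⟩
  · refine lt_of_le_of_ne (inf_le_inf_right _ hKH) ?_
    intro he
    have : H ⊓ L ≤ K := by
      rw [← he]
      exact inf_le_left
    rw [sup_eq_left.mpr this] at h
    exact c.lt.ne h
  · intro T hT hT1 hT2
    haveI := hT
    have hK' : K ≤ K ⊔ T := le_sup_left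
    have hH' : K ⊔ T ≤ H := sup_le hKH (hT2.trans inf_le_left)
    have hTL : T ≤ L := hT2.trans inf_le_right
    -- `(K ⊔ T) ⊓ (H ⊓ L) = T`
    have hform : (K ⊔ T) ⊓ (H ⊓ L) = T := by
      apply le_antisymm
      · rintro x ⟨hx1, hx2⟩
        obtain ⟨k, hk, t, ht, rfl⟩ := mem_sup_normal hx1
        have hkL : k ∈ L := by
          have e : k = (k * t) * t⁻¹ := by group
          rw [e]
          exact L.mul_mem hx2.2 (L.inv_mem (hTL ht))
        exact T.mul_mem (hT1 ⟨hk, hkL⟩) ht
      · exact le_inf le_sup_right hT2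
    rcases c.irr (K ⊔ T) inferInstance hK' hH' with h2 | h2
    · left
      apply le_antisymm _ hT1
      exact le_inf (sup_eq_left.mp h2) hTL
    · right
      rw [← hform, h2]
      exact inf_eq_right.mpr (inf_le_left)

/-- Passing a chief factor to a quotient. -/
theorem ChiefF.push {G' : Type*} [Group G'] {K H : Subgroup G} (c : ChiefF K H) (f : G →* G')
    (hf : Function.Surjective f) (h : H ⊓ f.ker ≤ K) :
    ChiefF (K.map f) (H.map f) ∧ (K.map f).relIndex (H.map f) = K.relIndex H := by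
  have := c.nK
  have := c.nH
  have hKH := c.lt.le
  have hmem : ∀ x ∈ H, f x ∈ K.map f → x ∈ K := by
    rintro x hx ⟨k, hk, hkx⟩
    have h1 : k⁻¹ * x ∈ f.ker := by
      rw [MonoidHom.mem_ker, map_mul, map_inv, hkx, inv_mul_cancel]
    have h2 : k⁻¹ * x ∈ H := H.mul_mem (H.inv_mem (hKH hk)) hx
    have h3 := h ⟨h2, h1⟩
    have e : x = k * (k⁻¹ * x) := by group
    rw [e]
    exact K.mul_mem hk h3
  have hidx : (K.map f).relIndex (H.map f) = K.relIndex H := by
    rw [← Subgroup.relIndex_comap, Subgroup.comap_map_eq]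
    have e : (K ⊔ f.ker) ⊓ H = K := by
      rw [sup_inf_eq_of_le hKH]
      exact sup_eq_left.mpr h
    rw [← Subgroup.inf_relIndex_right, e]
  refine ⟨⟨Subgroup.Normal.map inferInstance f hf, Subgroup.Normal.map inferInstance f hf, ?_, ?_⟩,
    hidx⟩
  · refine lt_of_le_of_ne (Subgroup.map_mono hKH) ?_
    intro he
    apply not_le_of_gt c.lt
    intro x hx
    exact hmem x hx (he ▸ Subgroup.mem_map_of_mem f hx)
  · intro T hT hT1 hT2
    have := hT
    have hTc : (T.comap f).Normal := inferInstance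
    rcases c.irr (T.comap f ⊓ H) inferInstance
        (le_inf (fun k hk => hT1 (Subgroup.mem_map_of_mem f hk)) hKH) inf_le_right with h2 | h2
    · left
      apply le_antisymm _ hT1
      intro t ht
      obtain ⟨x, hx, rfl⟩ := hT2 ht
      have : x ∈ T.comap f ⊓ H := ⟨ht, hx⟩
      rw [h2] at this
      exact Subgroup.mem_map_of_mem f this
    · right
      apply le_antisymm hT2
      rintro _ ⟨x, hx, rfl⟩
      have : x ∈ T.comap f ⊓ H := by
        rw [h2]
        exact hx
      exact this.1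

/-- The index of a chief factor divides that of a layer containing it. -/
theorem ChiefF.relIndex_dvd {K H A B : Subgroup G} (c : ChiefF K H) [A.Normal] (hAB : A ≤ B)
    (h1 : H ⊓ A ≤ K) (h2 : K ⊔ (H ⊓ B) = H) : K.relIndex H ∣ A.relIndex B := by
  have := c.nK
  have e1 : K.relIndex H = K.relIndex (H ⊓ B) := by
    conv_lhs => rw [← h2]
    exact Subgroup.relIndex_sup_left _ _
  rw [e1]
  have e2 : K.relIndex (H ⊓ B) ∣ A.relIndex (H ⊓ B) := by
    have h3 : (A ⊓ (H ⊓ B)) ≤ K := by
      rintro x ⟨hx1, hx2⟩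
      exact h1 ⟨hx2.1, hx1⟩
    have h4 := Subgroup.relIndex_dvd_of_le_left (H ⊓ B) h3
    rwa [Subgroup.inf_relIndex_right] at h4
  refine e2.trans ?_
  rw [← Subgroup.relIndex_sup_right]
  have h3 : (H ⊓ B) ⊔ A ≤ B := sup_le inf_le_right hAB
  have h4 : A ≤ (H ⊓ B) ⊔ A := le_sup_right
  exact ⟨_, (Subgroup.relIndex_mul_relIndex A _ B h4 h3).symm⟩

end chief

section pcentral

variable {p : ℕ} [hp : Fact p.Prime]

theorem card_lt_of_ne_top {L : Type*} [Group L] [Finite L] (M : Subgroup L) (hM : M ≠ ⊤) :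
    Nat.card M < Nat.card L := by
  have h1 := M.card_mul_index
  have h2 : M.index ≠ 1 := fun h => hM (Subgroup.index_eq_one.mp h)
  have h3 : M.index ≠ 0 := Subgroup.index_ne_zero_of_finite
  have h4 : 0 < Nat.card M := Nat.card_pos
  rw [← h1]
  have h5 : 2 ≤ M.index := by omega
  nlinarith

theorem choose_pow_eq_one {L : Type*} [Group L] (hp2 : p ≠ 2) {w : L} (hw : w ^ p = 1) :
    w ^ (p.choose 2) = 1 := by
  have hodd : 2 < p := lt_of_le_of_ne hp.out.two_le (Ne.symm hp2)
  obtain ⟨k, hk⟩ := hp.out.dvd_choose_self (by norm_num : (2 : ℕ) ≠ 0) hodd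
  rw [hk, pow_mul, hw, one_pow]

/-- In a `p`-group (`p` odd) whose elements of order `p` are central, elements of order dividing
`p²` have commutators of order dividing `p`. -/
theorem pc_comm (hp2 : p ≠ 2) : ∀ (n : ℕ) (L : Type u) [Group L] [Finite L], IsPGroup p L →
    (∀ x : L, x ^ p = 1 → ∀ g : L, x * g = g * x) → Nat.card L = n →
    ∀ x g : L, x ^ (p ^ 2) = 1 → (x⁻¹ * (g⁻¹ * x * g)) ^ p = 1 := by
  intro n
  induction n using Nat.strong_induction_on with
  | _ n ih =>
  intro L _ _ hL hcent hcard x g hx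
  by_cases hz : zpowers x = ⊤
  · have hg : g ∈ zpowers x := hz ▸ mem_top g
    obtain ⟨k, rfl⟩ := hg
    have : ((x ^ k)⁻¹ * x * x ^ k) = x := by
      have h1 : x * x ^ k = x ^ k * x := ((Commute.refl x).zpow_right k).eq
      rw [mul_assoc, h1]
      group
    simp only at this ⊢
    rw [this]
    simp
  · obtain ⟨M, hM, hxM⟩ : ∃ M : Subgroup L, IsCoatom M ∧ zpowers x ≤ M :=
      (eq_top_or_exists_le_coatom _).resolve_left hz
    have hNil : Group.IsNilpotent L := hL.isNilpotent
    have hMn : M.Normal :=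
      (Group.normalizerCondition_of_isNilpotent).normal_of_coatom M hM
    have hxm : x ∈ M := hxM (mem_zpowers x)
    have hcM : Nat.card M < n := by
      rw [← hcard]
      exact card_lt_of_ne_top M hM.1
    set x₂ := g⁻¹ * x * g with hx₂
    have hx₂m : x₂ ∈ M := by
      have := hMn.conj_mem x hxm g⁻¹
      simpa [hx₂] using this
    have hIH := ih _ hcM M (hL.to_subgroup M)
      (fun a ha b => Subtype.ext (hcent a (by
        have := congrArg Subtype.val ha
        simpa using this) b))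
      rfl ⟨x, hxm⟩ ⟨x₂, hx₂m⟩⁻¹ (Subtype.ext (by simpa using hx))
    have hIH' : (x⁻¹ * (x₂ * x * x₂⁻¹)) ^ p = 1 := by
      have := congrArg Subtype.val hIH
      simpa using this
    set w := x₂ * x⁻¹ * x₂⁻¹ * x with hw
    have hwe : w = (x⁻¹ * (x₂ * x * x₂⁻¹))⁻¹ := by rw [hw]; group
    have hwp : w ^ p = 1 := by rw [hwe, inv_pow, hIH', inv_one]
    have hwc : ∀ y : L, w * y = y * w := hcent w hwp
    have h1 : x₂ * x⁻¹ = w * x⁻¹ * x₂ := by rw [hw]; group
    rw [Cfsg.Agent.Lib.OddLocalA.mul_pow_of_central_comm x⁻¹ x₂ w h1 (hwc _) (hwc _) p,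
      choose_pow_eq_one hp2 hwp, mul_one]
    have hxpp : (x ^ p) ^ p = 1 := by
      rw [← pow_mul, ← sq]
      exact hx
    have hxpc := hcent (x ^ p) hxpp
    have h2 : x₂ ^ p = x ^ p := by
      have h3 : (g⁻¹ * x * g⁻¹⁻¹) ^ p = g⁻¹ * x ^ p * g⁻¹⁻¹ := conj_pow
      rw [inv_inv] at h3
      rw [hx₂, h3, mul_assoc, hxpc g, ← mul_assoc, inv_mul_cancel, one_mul]
    rw [h2, inv_pow, inv_mul_cancel]

/-- The `p`-th power map is additive on elements of order dividing `p²`. -/
theorem pc_mul_pow (hp2 : p ≠ 2) {L : Type u} [Group L] [Finite L] (hL : IsPGroup p L)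
    (hcent : ∀ x : L, x ^ p = 1 → ∀ g : L, x * g = g * x) {x y : L} (hx : x ^ (p ^ 2) = 1) :
    (x * y) ^ p = x ^ p * y ^ p := by
  have h0 := pc_comm hp2 _ L hL hcent rfl x y⁻¹ hx
  set w := y * x * y⁻¹ * x⁻¹ with hw
  have hwe : w = x * (x⁻¹ * (y⁻¹⁻¹ * x * y⁻¹)) * x⁻¹ := by rw [hw]; group
  have hwp : w ^ p = 1 := by
    rw [hwe, conj_pow, h0]
    group
  have hwc := hcent w hwp
  have h1 : y * x = w * x * y := by rw [hw]; group
  rw [Cfsg.Agent.Lib.OddLocalA.mul_pow_of_central_comm x y w h1 (hwc _) (hwc _) p,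
    choose_pow_eq_one hp2 hwp, mul_one]

variable {G : Type u} [Group G] [Finite G]

/-- Elements of order `p` of `R` are central in `R`. -/
def PCentral (p : ℕ) (R : Subgroup G) : Prop := ∀ x ∈ R, x ^ p = 1 → ∀ g ∈ R, x * g = g * x

/-- Subgroups of exponent `p` of `R` have order at most `m`. -/
def ExpBd (p : ℕ) (R : Subgroup G) (m : ℕ) : Prop :=
  ∀ A : Subgroup G, A ≤ R → (∀ a ∈ A, a ^ p = 1) → Nat.card A ≤ m

/-- The elements of order dividing `p`. -/
def omegaC (R : Subgroup G) (hc : PCentral p R) : Subgroup G where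
  carrier := {x | x ∈ R ∧ x ^ p = 1}
  mul_mem' := by
    rintro a b ⟨ha, hap⟩ ⟨hb, hbp⟩
    refine ⟨R.mul_mem ha hb, ?_⟩
    have : Commute a b := hc a ha hap b hb
    rw [this.mul_pow, hap, hbp, one_mul]
  one_mem' := ⟨R.one_mem, one_pow _⟩
  inv_mem' := by
    rintro a ⟨ha, hap⟩
    exact ⟨R.inv_mem ha, by rw [inv_pow, hap, inv_one]⟩

theorem mem_omegaC {R : Subgroup G} {hc : PCentral p R} {x : G} :
    x ∈ omegaC R hc ↔ x ∈ R ∧ x ^ p = 1 := Iff.rfl

theorem omegaC_normal (R : Subgroup G) [hR : R.Normal] (hc : PCentral p R) :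
    (omegaC R hc).Normal := by
  constructor
  rintro x ⟨hx, hxp⟩ g
  exact ⟨hR.conj_mem x hx g, by rw [conj_pow, hxp]; group⟩

theorem pcentral_coe {R : Subgroup G} (hc : PCentral p R) :
    ∀ x : R, x ^ p = 1 → ∀ g : R, x * g = g * x := by
  intro x hx g
  apply Subtype.ext
  exact hc x x.2 (by simpa using congrArg Subtype.val hx) g g.2

theorem pc_comm' (hp2 : p ≠ 2) {R : Subgroup G} (hR : IsPGroup p R) (hc : PCentral p R) {x g : G}
    (hx : x ∈ R) (hg : g ∈ R) (hxp : x ^ (p ^ 2) = 1) : (x⁻¹ * (g⁻¹ * x * g)) ^ p = 1 := by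
  have := pc_comm hp2 _ R hR (pcentral_coe hc) rfl ⟨x, hx⟩ ⟨g, hg⟩ (Subtype.ext (by simpa using hxp))
  simpa using congrArg Subtype.val this

theorem pc_mul_pow' (hp2 : p ≠ 2) {R : Subgroup G} (hR : IsPGroup p R) (hc : PCentral p R) {x y : G}
    (hx : x ∈ R) (hy : y ∈ R) (hxp : x ^ (p ^ 2) = 1) : (x * y) ^ p = x ^ p * y ^ p := by
  have := pc_mul_pow hp2 hR (pcentral_coe hc) (x := ⟨x, hx⟩) (y := ⟨y, hy⟩)
    (Subtype.ext (by simpa using hxp))
  simpa using congrArg Subtype.val this

/-- The quotient by the elements of order `p` is again `p`-central. -/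
theorem pcentral_quot (hp2 : p ≠ 2) {R : Subgroup G} [R.Normal] (hR : IsPGroup p R)
    (hc : PCentral p R) [(omegaC R hc).Normal] :
    PCentral p (R.map (QuotientGroup.mk' (omegaC R hc))) := by
  rintro _ ⟨x, hx, rfl⟩ hxp _ ⟨g, hg, rfl⟩
  have h1 : x ^ p ∈ omegaC R hc := by
    rw [← QuotientGroup.eq_one_iff]
    simpa using hxp
  have h2 : x ^ (p ^ 2) = 1 := by
    rw [sq, pow_mul]
    exact h1.2
  have h3 := pc_comm' hp2 hR hc hx hg h2
  have h4 : x⁻¹ * (g⁻¹ * x * g) ∈ omegaC R hc :=
    ⟨R.mul_mem (R.inv_mem hx) (R.mul_mem (R.mul_mem (R.inv_mem hg) hx) hg), h3⟩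
  have h5 : (QuotientGroup.mk' (omegaC R hc)) (x⁻¹ * (g⁻¹ * x * g)) = 1 :=
    (QuotientGroup.eq_one_iff _).mpr h4
  simp only [map_mul, map_inv] at h5 ⊢
  have h7 := inv_mul_eq_one.mp h5
  set a := (QuotientGroup.mk' (omegaC R hc)) x
  set b := (QuotientGroup.mk' (omegaC R hc)) g
  calc a * b = b * (b⁻¹ * a * b) := by group
    _ = b * a := by rw [← h7]

/-- The exponent bound passes to the quotient. -/
theorem expBd_quot (hp2 : p ≠ 2) {R : Subgroup G} [R.Normal] (hR : IsPGroup p R)
    (hc : PCentral p R) [(omegaC R hc).Normal] {m : ℕ} (hm : ExpBd p R m) :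
    ExpBd p (R.map (QuotientGroup.mk' (omegaC R hc))) m := by
  intro A hAR hAe
  set f := QuotientGroup.mk' (omegaC R hc) with hf
  set T := A.comap f ⊓ R with hT
  have hTm : T.map f = A := by
    apply le_antisymm
    · rintro _ ⟨t, ht, rfl⟩
      exact ht.1
    · intro a ha
      obtain ⟨x, hx, rfl⟩ := hAR ha
      exact ⟨x, ⟨ha, hx⟩, rfl⟩
  have hTp : ∀ t ∈ T, t ^ p ∈ omegaC R hc := by
    intro t ht
    have := hAe _ ht.1
    rw [← map_pow] at this
    exact (QuotientGroup.eq_one_iff _).mp this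
  have hT2 : ∀ t ∈ T, t ^ (p ^ 2) = 1 := by
    intro t ht
    rw [sq, pow_mul]
    exact (hTp t ht).2
  let φ : T →* G :=
    { toFun := fun t => (t : G) ^ p
      map_one' := by simp
      map_mul' := fun a b => by
        exact pc_mul_pow' hp2 hR hc a.2.2 b.2.2 (hT2 a a.2) }
  have hker : φ.ker = (omegaC R hc).subgroupOf T := by
    ext t
    rw [MonoidHom.mem_ker, Subgroup.mem_subgroupOf]
    exact ⟨fun h => ⟨t.2.2, h⟩, fun h => h.2⟩
  have hrange : φ.range ≤ omegaC R hc := by
    rintro _ ⟨t, rfl⟩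
    exact hTp t t.2
  rw [← hTm, ← Subgroup.relIndex_ker, QuotientGroup.ker_mk']
  have h1 : (omegaC R hc).relIndex T = Nat.card φ.range := by
    unfold Subgroup.relIndex
    rw [← hker, Subgroup.index_ker]
  rw [h1]
  refine (Subgroup.card_le_of_le hrange).trans ?_
  exact hm _ (fun x hx => hx.1) (fun a ha => ha.2)

theorem exists_order_p_of_ne_bot {R : Subgroup G} (hR : IsPGroup p R) (hne : R ≠ ⊥) :
    ∃ x ∈ R, x ≠ 1 ∧ x ^ p = 1 := by
  obtain ⟨k, hk⟩ := IsPGroup.iff_card.mp hR
  have hk0 : k ≠ 0 := by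
    rintro rfl
    rw [pow_zero] at hk
    exact hne (Subgroup.eq_bot_of_card_eq _ hk)
  have hpd : p ∣ Nat.card R := by
    rw [hk]
    exact dvd_pow_self p hk0
  obtain ⟨x, hx⟩ := exists_prime_orderOf_dvd_card' p hpd
  refine ⟨x, x.2, ?_, ?_⟩
  · intro h
    have h1 : x = 1 := Subtype.ext h
    rw [h1, orderOf_one] at hx
    exact hp.out.ne_one hx.symm
  · have := pow_orderOf_eq_one x
    rw [hx] at this
    simpa using congrArg Subtype.val this

/-- **Chief factors inside a `p`-central normal `p`-subgroup.** -/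
theorem pc_chief (hp2 : p ≠ 2) : ∀ (n : ℕ) (G : Type u) [Group G] [Finite G] (R : Subgroup G)
    [R.Normal] (m : ℕ), Nat.card R = n → IsPGroup p R → PCentral p R → ExpBd p R m →
    ∀ K H : Subgroup G, ChiefF K H → H ≤ R → K.relIndex H ≤ m := by
  intro n
  induction n using Nat.strong_induction_on with
  | _ n ih =>
  intro G _ _ R _ m hcard hR hc hm K H hch hHR
  have hE : (omegaC R hc).Normal := omegaC_normal R hc
  set E := omegaC R hc with hEdef
  have hEm : Nat.card E ≤ m := hm E (fun x hx => hx.1) (fun a ha => ha.2)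
  have hRne : R ≠ ⊥ := by
    intro h
    rw [h, le_bot_iff] at hHR
    have h1 := hch.lt
    rw [hHR] at h1
    exact not_lt_bot h1
  obtain ⟨x, hxR, hx1, hxp⟩ := exists_order_p_of_ne_bot hR hRne
  have hEne : E ≠ ⊥ := by
    intro h
    have : x ∈ E := ⟨hxR, hxp⟩
    rw [h] at this
    exact hx1 (Subgroup.mem_bot.mp this)
  rcases hch.dich E with h1 | h1
  · -- pass to the quotient
    obtain ⟨hc', hidx⟩ := hch.push (QuotientGroup.mk' E) (QuotientGroup.mk'_surjective E)
      (by rwa [QuotientGroup.ker_mk'])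
    rw [← hidx]
    have hRn : (R.map (QuotientGroup.mk' E)).Normal :=
      Subgroup.Normal.map inferInstance _ (QuotientGroup.mk'_surjective E)
    have hlt : Nat.card (R.map (QuotientGroup.mk' E)) < n := by
      rw [← Subgroup.relIndex_ker, QuotientGroup.ker_mk']
      have h2 : E.relIndex R * Nat.card E = Nat.card R := by
        have h3 : E ≤ R := fun x hx => hx.1
        have h4 := (E.subgroupOf R).index_mul_card
        have h5 : Nat.card (E.subgroupOf R) = Nat.card E := by
          exact Nat.card_congr (Subgroup.subgroupOfEquivOfLe h3).toEquiv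
        rw [h5] at h4
        exact h4
      have h3 : 2 ≤ Nat.card E := by
        have h4 : Nat.card E ≠ 1 := fun h => hEne (Subgroup.eq_bot_of_card_eq _ h)
        have h5 : 0 < Nat.card E := Nat.card_pos
        omega
      have h4 : 0 < E.relIndex R := by
        have h5 : 0 < Nat.card R := Nat.card_pos
        rw [← h2] at h5
        exact Nat.pos_of_mul_pos_right h5 |> fun h => by omega
      rw [← hcard, ← h2]
      nlinarith
    exact ih _ hlt (G ⧸ E) (R.map (QuotientGroup.mk' E)) m rfl (hR.map _) (pcentral_quot hp2 hR hc)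
      (expBd_quot hp2 hR hc hm) _ _ hc' (Subgroup.map_mono hHR)
  · have e1 : K.relIndex H = K.relIndex (H ⊓ E) := by
      conv_lhs => rw [← h1]
      have := hch.nK
      exact Subgroup.relIndex_sup_left _ _
    rw [e1]
    refine le_trans ?_ (le_trans (Subgroup.card_le_of_le (inf_le_right : H ⊓ E ≤ E)) hEm)
    unfold Subgroup.relIndex
    have h2 := (K.subgroupOf (H ⊓ E)).index_mul_card
    have h3 : 0 < Nat.card (K.subgroupOf (H ⊓ E)) := Nat.card_pos
    nlinarith

end pcentral

end Cfsg.Agent.H28.ChiefRank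

namespace Cfsg.Agent.H28.ChiefRank

open Subgroup
open scoped commutatorElement

universe u

section orbit

variable {p : ℕ} [hp : Fact p.Prime]

theorem index_le_of_fun {A : Type*} [Group A] (U : Subgroup A) {X : Type*} [Finite X] (c : A → X)
    (h : ∀ a b, c a = c b → a⁻¹ * b ∈ U) : U.index ≤ Nat.card X := by
  unfold Subgroup.index
  refine Nat.card_le_card_of_injective (fun q : A ⧸ U => c q.out) ?_
  intro q₁ q₂ he
  have h1 := h _ _ he
  have h2 := (QuotientGroup.eq (s := U)).mpr h1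
  simpa using h2

variable {T : Type u} [Group T] [Finite T]

theorem commutator_top_lt (hT : IsPGroup p T) (W : Subgroup T) [W.Normal] (hW : W ≠ ⊥) :
    ⁅W, (⊤ : Subgroup T)⁆ < W := by
  refine lt_of_le_of_ne (Subgroup.commutator_le_left _ _) ?_
  intro he
  have hNil : Group.IsNilpotent T := hT.isNilpotent
  obtain ⟨n, hn⟩ := _root_.nilpotent_iff_lowerCentralSeries.mp hNil
  have key : ∀ k, W ≤ (⊤ : Subgroup T).lowerCentralSeries k := by
    intro k
    induction k with
    | zero => exact le_top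
    | succ k ih =>
      rw [← he]
      exact Subgroup.commutator_mono ih le_rfl
  have := key n
  rw [hn] at this
  exact hW (le_bot_iff.mp this)

/-- A hyperplane of a normal subgroup of a `p`-group containing the commutator with the whole group. -/
theorem exists_hyper (hT : IsPGroup p T) (W : Subgroup T) [W.Normal] {k : ℕ}
    (hW : Nat.card W = p ^ (k + 1)) :
    ∃ W₀ : Subgroup T, W₀ ≤ W ∧ Nat.card W₀ = p ^ k ∧ ∀ x ∈ W, ∀ t : T, ⁅x, t⁆ ∈ W₀ := by
  have hpp := hp.out
  have hne : W ≠ ⊥ := by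
    intro h
    rw [h, Subgroup.card_bot] at hW
    have h2 : 1 < p ^ (k + 1) := Nat.one_lt_pow (by omega) hpp.one_lt
    omega
  have hlt := commutator_top_lt hT W hne
  set U := (⁅W, (⊤ : Subgroup T)⁆).subgroupOf W with hU
  have hUp : IsPGroup p U := (hT.to_subgroup W).to_subgroup U
  obtain ⟨a, ha⟩ := IsPGroup.iff_card.mp hUp
  have hUcard : Nat.card U = Nat.card (⁅W, (⊤ : Subgroup T)⁆ : Subgroup T) :=
    Nat.card_congr (Subgroup.subgroupOfEquivOfLe hlt.le).toEquiv
  have hak : a ≤ k := by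
    have h1 : Nat.card (⁅W, (⊤ : Subgroup T)⁆ : Subgroup T) < Nat.card W := by
      have h2 := Subgroup.card_le_of_le hlt.le
      refine lt_of_le_of_ne h2 ?_
      intro h3
      exact hlt.ne (Subgroup.eq_of_le_of_card_ge hlt.le h3.ge)
    rw [← hUcard, ha, hW] at h1
    have h2 := (Nat.pow_lt_pow_iff_right hpp.one_lt).mp h1
    omega
  have hdvd : p ^ k ∣ Nat.card W := by
    rw [hW]
    exact pow_dvd_pow p (Nat.le_succ k)
  obtain ⟨M, hM, hUM⟩ := Sylow.exists_subgroup_card_pow_prime_le p hdvd U ha hak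
  refine ⟨M.map W.subtype, Subgroup.map_subtype_le _, ?_, ?_⟩
  · rw [Subgroup.card_map_of_injective W.subtype_injective, hM]
  · intro x hx t
    have h1 : ⁅x, t⁆ ∈ ⁅W, (⊤ : Subgroup T)⁆ := Subgroup.commutator_mem_commutator hx (mem_top t)
    have h2 : (⟨⁅x, t⁆, hlt.le h1⟩ : W) ∈ U := h1
    exact ⟨_, hUM h2, rfl⟩

/-- A `p`-group acts on a normal subgroup of order `p ^ k` through a group of order at most
`p ^ (k choose 2)`. -/
theorem orbit_bound (hT : IsPGroup p T) : ∀ (k : ℕ) (W : Subgroup T) [W.Normal], Nat.card W = p ^ k →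
    (centralizer (W : Set T)).index ≤ p ^ (k.choose 2) := by
  have hpp := hp.out
  intro k
  induction k with
  | zero =>
    intro W _ hW
    have : W = ⊥ := Subgroup.eq_bot_of_card_eq _ (by simpa using hW)
    subst this
    have h1 : centralizer ((⊥ : Subgroup T) : Set T) = ⊤ := by
      ext x
      simp [Subgroup.mem_centralizer_iff]
    rw [h1, Subgroup.index_top]
    simp
  | succ k ih =>
    intro W _ hW
    obtain ⟨W₀, hW₀W, hW₀, hcomm⟩ := exists_hyper hT W hW
    have hW₀n : W₀.Normal := by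
      constructor
      intro x hx g
      have h1 := hcomm x (hW₀W hx) g
      rw [commutatorElement_def] at h1
      have h2 : g * x * g⁻¹ = (x * g * x⁻¹ * g⁻¹)⁻¹ * x := by group
      rw [h2]
      exact W₀.mul_mem (W₀.inv_mem h1) hx
    have hIH := ih W₀ hW₀
    -- an element outside `W₀`
    have hlt : W₀ < W := by
      refine lt_of_le_of_ne hW₀W ?_
      intro h
      rw [h, hW] at hW₀
      have := Nat.pow_right_injective hpp.two_le hW₀
      omega
    obtain ⟨w, hwW, hwW₀⟩ := SetLike.exists_of_lt hlt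
    have hsup : W₀ ⊔ zpowers w = W := by
      set L := W₀ ⊔ zpowers w with hL
      have hLW : L ≤ W := sup_le hW₀W ((zpowers_le).mpr hwW)
      have h1 : Nat.card W₀ ∣ Nat.card L := Subgroup.card_dvd_of_le le_sup_left
      have h2 : Nat.card L ∣ Nat.card W := Subgroup.card_dvd_of_le hLW
      rw [hW] at h2
      obtain ⟨j, hj, hjc⟩ := (Nat.dvd_prime_pow hpp).mp h2
      rw [hW₀, hjc] at h1
      have hkj : k ≤ j := (Nat.pow_dvd_pow_iff_le_right hpp.one_lt).mp h1
      rcases (by omega : j = k ∨ j = k + 1) with rfl | rfl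
      · exfalso
        have : L = W₀ := by
          symm
          apply Subgroup.eq_of_le_of_card_ge le_sup_left
          rw [hjc, hW₀]
        apply hwW₀
        rw [← this]
        exact Subgroup.mem_sup_right (mem_zpowers w)
      · apply Subgroup.eq_of_le_of_card_ge hLW
        rw [hjc, hW]
    -- the centralizer
    set C₀ := centralizer (W₀ : Set T) with hC₀
    set D := C₀ ⊓ centralizer ({w} : Set T) with hD
    have hDle : D ≤ centralizer (W : Set T) := by
      intro x hx
      rw [Subgroup.mem_centralizer_iff]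
      have h1 : W ≤ centralizer ({x} : Set T) := by
        rw [← hsup]
        refine sup_le ?_ ((zpowers_le).mpr ?_)
        · intro y hy
          rw [Subgroup.mem_centralizer_iff]
          rintro _ rfl
          exact (Subgroup.mem_centralizer_iff.mp hx.1 y hy).symm
        · rw [Subgroup.mem_centralizer_iff]
          rintro _ rfl
          exact (Subgroup.mem_centralizer_iff.mp hx.2 w rfl).symm
      intro y hy
      exact (Subgroup.mem_centralizer_iff.mp (h1 hy) x rfl).symm
    have hDidx : D.relIndex C₀ ≤ p ^ k := by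
      have h1 := index_le_of_fun (D.subgroupOf C₀)
        (fun s : C₀ => (⟨(s : T) * w * (s : T)⁻¹ * w⁻¹, by
            have h2 := hcomm w hwW (s : T)
            rw [commutatorElement_def] at h2
            have h3 : (s : T) * w * (s : T)⁻¹ * w⁻¹ = (w * (s : T) * w⁻¹ * (s : T)⁻¹)⁻¹ := by
              group
            rw [h3]
            exact W₀.inv_mem h2⟩ : W₀)) ?_
      · unfold Subgroup.relIndex
        rwa [hW₀] at h1
      · intro a b hab
        rw [Subgroup.mem_subgroupOf]
        refine ⟨(C₀.inv_mem a.2 |> fun h => C₀.mul_mem h b.2), ?_⟩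
        show (((a⁻¹ * b : C₀)) : T) ∈ centralizer ({w} : Set T)
        rw [Subgroup.mem_centralizer_iff]
        intro y hy
        rw [show y = w from hy]
        have h1 := congrArg Subtype.val hab
        simp only at h1
        have h2 : (a : T) * w * (a : T)⁻¹ = (b : T) * w * (b : T)⁻¹ := mul_right_cancel h1
        simp only [Subgroup.coe_mul, Subgroup.coe_inv]
        calc w * ((a : T)⁻¹ * b) = (a : T)⁻¹ * ((a : T) * w * (a : T)⁻¹) * b := by group
          _ = (a : T)⁻¹ * ((b : T) * w * (b : T)⁻¹) * b := by rw [h2]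
          _ = (a : T)⁻¹ * b * w := by group
    have hDle0 : D ≤ C₀ := inf_le_left
    have h1 := Subgroup.relIndex_mul_index hDle0
    have h2 : (centralizer (W : Set T)).index ≤ D.index := by
      apply Nat.le_of_dvd (Nat.pos_of_ne_zero Subgroup.index_ne_zero_of_finite)
      exact Subgroup.index_dvd_of_le hDle
    refine h2.trans ?_
    rw [← h1]
    have h3 : (k + 1).choose 2 = k + k.choose 2 := by
      rw [show (2 : ℕ) = 1 + 1 from rfl, Nat.choose_succ_succ k 1, Nat.choose_one_right]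
    rw [h3, pow_add]
    exact Nat.mul_le_mul hDidx hIH

end orbit

end Cfsg.Agent.H28.ChiefRank
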