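import Mathlib
import Cfsg.Prelude.Def_Local
import Cfsg.Agent.Lib.Tate
import Cfsg.Agent.Lib.Frat
import Cfsg.Agent.Lib.LocalCore
import Cfsg.Agent.Lib.ComponentKnown
import Cfsg.Agent.Lib.Glauberman
import Cfsg.Agent.S4403

/-!
# Two-generated non-abelian Sylow subgroups: the group-theoretic lemmas for S4172
-/

set_option autoImplicit false
set_option linter.unusedSectionVars false
open Cfsg

namespace Cfsg.Agent.H28.TwoGen

open Cfsg.Agent.Lib.LocalCore Cfsg.Agent.Lib.PCore

section Quot

variable {R : Type*} [Group R] [Finite R] {p : ℕ} [hp : Fact p.Prime]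

/-- A `p`-group with Frattini index `p²` has cyclic quotient by any normal subgroup not inside the
Frattini subgroup. -/
theorem quot_cyclic (hgen : (frattini R).index = p ^ 2) (T : Subgroup R) [hT : T.Normal]
    (hTF : ¬ T ≤ frattini R) : IsCyclic (R ⧸ T) := by
  have hpp := hp.out
  set F : Subgroup R := T ⊔ frattini R with hF
  have hFle : frattini R ≤ F := le_sup_right
  have hdvd : F.index ∣ p ^ 2 := by
    rw [← hgen]; exact Subgroup.index_dvd_of_le hFle
  obtain ⟨i, hi2, hi⟩ := (Nat.dvd_prime_pow hpp).1 hdvd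
  have hne : F ≠ frattini R := by
    intro h
    apply hTF
    rw [← h]
    exact le_sup_left
  have hi' : i ≠ 2 := by
    rintro rfl
    apply hne
    refine (Subgroup.eq_of_le_of_card_ge hFle ?_).symm
    have h1 := Subgroup.card_mul_index F
    have h2 := Subgroup.card_mul_index (frattini R)
    rw [hi] at h1
    rw [hgen] at h2
    have hpos : 0 < p ^ 2 := pow_pos hpp.pos 2
    have : Nat.card F * p ^ 2 = Nat.card (frattini R) * p ^ 2 := by rw [h1, h2]
    exact (Nat.eq_of_mul_eq_mul_right hpos this).le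
  have hcase : ∃ x : R, T ⊔ Subgroup.zpowers x = ⊤ := by
    have hi1 : i = 0 ∨ i = 1 := by omega
    rcases hi1 with rfl | rfl
    · refine ⟨1, ?_⟩
      have hF1 : F = ⊤ := by
        rw [← Subgroup.index_eq_one]; simpa using hi
      have := frattini_nongenerating (G := R) (K := T) hF1
      rw [this]; simp
    · have hFidx : F.index = p := by simpa using hi
      have hFne : F ≠ ⊤ := by
        intro h
        rw [h, Subgroup.index_top] at hFidx
        exact hpp.one_lt.ne hFidx
      obtain ⟨x, hx⟩ : ∃ x : R, x ∉ F := by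
        by_contra hall
        push Not at hall
        exact hFne (eq_top_iff.mpr fun y _ => hall y)
      refine ⟨x, ?_⟩
      have hlt : F ≤ F ⊔ Subgroup.zpowers x := le_sup_left
      have hdv : (F ⊔ Subgroup.zpowers x).index ∣ p := by
        rw [← hFidx]; exact Subgroup.index_dvd_of_le hlt
      have htop : F ⊔ Subgroup.zpowers x = ⊤ := by
        rcases (Nat.dvd_prime hpp).1 hdv with h1 | h1
        · exact Subgroup.index_eq_one.mp h1
        · exfalso
          apply hx
          have hEq : F = F ⊔ Subgroup.zpowers x := by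
            apply Subgroup.eq_of_le_of_card_ge hlt
            have h3 := Subgroup.card_mul_index F
            have h4 := Subgroup.card_mul_index (F ⊔ Subgroup.zpowers x)
            rw [hFidx] at h3
            rw [h1] at h4
            have : Nat.card (F ⊔ Subgroup.zpowers x : Subgroup R) * p = Nat.card F * p := by
              rw [h3, h4]
            exact (Nat.eq_of_mul_eq_mul_right hpp.pos this).le
          rw [hEq]
          exact Subgroup.mem_sup_right (Subgroup.mem_zpowers x)
      have h2 : (T ⊔ Subgroup.zpowers x) ⊔ frattini R = ⊤ := by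
        rw [eq_top_iff, ← htop, hF]
        apply sup_le
        · apply sup_le
          · exact le_sup_of_le_left le_sup_left
          · exact le_sup_right
        · exact le_sup_of_le_left le_sup_right
      exact frattini_nongenerating (G := R) (K := T ⊔ Subgroup.zpowers x) h2
  obtain ⟨x, hx⟩ := hcase
  refine ⟨(x : R ⧸ T), ?_⟩
  intro y
  obtain ⟨y, rfl⟩ := QuotientGroup.mk_surjective y
  have hy : y ∈ T ⊔ Subgroup.zpowers x := by rw [hx]; trivial
  rw [sup_comm] at hy
  rw [← SetLike.mem_coe, Subgroup.mul_normal] at hy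
  obtain ⟨a, ha, t, ht, rfl⟩ := hy
  obtain ⟨k, rfl⟩ := ha
  refine ⟨k, ?_⟩
  simp only [QuotientGroup.mk_mul, QuotientGroup.mk_zpow]
  rw [(QuotientGroup.eq_one_iff t).mpr ht, mul_one]

end Quot

section Basic

variable {G : Type*} [Group G] [Finite G] {p : ℕ} [hp : Fact p.Prime]

/-- Tate's theorem for subgroups normalized by a Sylow subgroup. -/
theorem npc_of_le_frattini (P : Sylow p G) (K : Subgroup G)
    (hn : (P : Subgroup G) ≤ Subgroup.normalizer (K : Set G))
    (h : K ⊓ (P : Subgroup G) ≤ (frattini (P : Subgroup G)).map (P : Subgroup G).subtype) :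
    HasNormalPComplement p K := by
  obtain ⟨L, hLN, hLc, hL⟩ := Cfsg.Agent.Lib.Tate.tate_aux P _ K rfl hn h
  apply Cfsg.Agent.Lib.Tate.hasNormalPComplement_of_pow (p := p) (L.subgroupOf K)
  · have : Nat.card (L.subgroupOf K) = Nat.card L :=
      Nat.card_congr (Subgroup.subgroupOfEquivOfLe hLN).toEquiv
    rw [this]; exact hLc
  · intro x
    obtain ⟨k, hk⟩ := hL x x.2
    exact ⟨k, by rw [Subgroup.mem_subgroupOf]; exact hk⟩

variable (P : Sylow p G)

/-- The subgroup of `P` cut out by a subgroup `K` that `P` normalizes is normal. -/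
theorem subgroupOf_normal_of_le {K : Subgroup G}
    (hn : (P : Subgroup G) ≤ Subgroup.normalizer (K : Set G)) :
    (K.subgroupOf (P : Subgroup G)).Normal := by
  constructor
  intro t ht g
  rw [Subgroup.mem_subgroupOf] at ht ⊢
  have := (Subgroup.mem_normalizer_iff.mp (hn g.2) (t : G)).mp ht
  simpa using this

theorem not_le_subgroupOf {K : Subgroup G}
    (h : ¬ K ⊓ (P : Subgroup G) ≤ (frattini (P : Subgroup G)).map (P : Subgroup G).subtype) :
    ¬ K.subgroupOf (P : Subgroup G) ≤ frattini (P : Subgroup G) := by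
  intro hle
  apply h
  rintro x ⟨hxK, hxP⟩
  exact ⟨⟨x, hxP⟩, hle (by rw [Subgroup.mem_subgroupOf]; exact hxK), rfl⟩

/-- Commutators of `P` lie in `K`. -/
theorem commutator_mem {K : Subgroup G}
    (hgen : (frattini (P : Subgroup G)).index = p ^ 2)
    (hn : (P : Subgroup G) ≤ Subgroup.normalizer (K : Set G))
    (h : ¬ K ⊓ (P : Subgroup G) ≤ (frattini (P : Subgroup G)).map (P : Subgroup G).subtype)
    {a b : G} (ha : a ∈ (P : Subgroup G)) (hb : b ∈ (P : Subgroup G)) : a * b * a⁻¹ * b⁻¹ ∈ K := by
  have := subgroupOf_normal_of_le P hn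
  have hc := quot_cyclic hgen (K.subgroupOf (P : Subgroup G)) (not_le_subgroupOf P h)
  have h1 := (IsCyclic.isMulCommutative (α := ↥(P : Subgroup G) ⧸ K.subgroupOf (P : Subgroup G))).is_comm.comm
    ((⟨b⁻¹, P.inv_mem hb⟩ : ↥(P : Subgroup G)) : ↥(P : Subgroup G) ⧸ K.subgroupOf (P : Subgroup G))
    ((⟨a⁻¹, P.inv_mem ha⟩ : ↥(P : Subgroup G)) : ↥(P : Subgroup G) ⧸ K.subgroupOf (P : Subgroup G))
  rw [← QuotientGroup.mk_mul, ← QuotientGroup.mk_mul, QuotientGroup.eq] at h1
  rw [Subgroup.mem_subgroupOf] at h1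
  simpa [mul_assoc] using h1

/-- `P` maps to a cyclic group modulo a normal subgroup `K` not inside `Φ(P)`. -/
theorem map_cyclic {K : Subgroup G} [hKn : K.Normal]
    (hgen : (frattini (P : Subgroup G)).index = p ^ 2)
    (h : ¬ K ⊓ (P : Subgroup G) ≤ (frattini (P : Subgroup G)).map (P : Subgroup G).subtype) :
    IsCyclic ↥((P : Subgroup G).map (QuotientGroup.mk' K)) := by
  have hn : (P : Subgroup G) ≤ Subgroup.normalizer (K : Set G) := by
    rw [Subgroup.normalizer_eq_top_iff.mpr hKn]; exact le_top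
  have := subgroupOf_normal_of_le P hn
  have hc := quot_cyclic hgen (K.subgroupOf (P : Subgroup G)) (not_le_subgroupOf P h)
  let φ : ↥(P : Subgroup G) →* ↥((P : Subgroup G).map (QuotientGroup.mk' K)) :=
    ((QuotientGroup.mk' K).comp (P : Subgroup G).subtype).codRestrict _
      (fun x => ⟨x, x.2, rfl⟩)
  have hφ : ∀ t ∈ K.subgroupOf (P : Subgroup G), φ t = 1 := by
    intro t ht
    apply Subtype.ext
    show ((t : G) : G ⧸ K) = 1
    rw [QuotientGroup.eq_one_iff]
    exact ht
  let ψ := QuotientGroup.lift (K.subgroupOf (P : Subgroup G)) φ hφ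
  apply isCyclic_of_surjective ψ
  rintro ⟨_, x, hx, rfl⟩
  exact ⟨((⟨x, hx⟩ : ↥(P : Subgroup G)) : ↥(P : Subgroup G) ⧸ K.subgroupOf (P : Subgroup G)), rfl⟩

end Basic

end Cfsg.Agent.H28.TwoGen
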