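import Mathlib
import Cfsg.Agent.H28.TwoGenA

/-!
# S4172: structure of `G` from a two-generated non-abelian Sylow subgroup
-/

set_option autoImplicit false
set_option linter.unusedSectionVars false
open Cfsg
open scoped commutatorElement

namespace Cfsg.Agent.H28.TwoGen

open Cfsg.Agent.Lib.LocalCore Cfsg.Agent.Lib.PCore Cfsg.Agent.Lib.ComponentKnown

variable {G : Type*} [Group G] [Finite G] {p : ℕ} [hp : Fact p.Prime]

/-- Transfer: a central `p`-element in the derived subgroup, with an abelian Sylow `p`-subgroup,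
is trivial. -/
theorem central_comm_eq_one {X : Type*} [Group X] [Finite X] (p : ℕ) [Fact p.Prime]
    (T : Sylow p X) (hT : IsMulCommutative (T : Subgroup X))
    {z : X} (hz : z ∈ Subgroup.center X) (hzT : z ∈ (T : Subgroup X)) (hzc : z ∈ commutator X) :
    z = 1 := by
  have : (T : Subgroup X).FiniteIndex := inferInstance
  let _ : CommGroup (T : Subgroup X) := { (inferInstance : Group (T : Subgroup X)) with
    mul_comm := hT.is_comm.comm }
  let V : X →* (T : Subgroup X) := MonoidHom.transfer (MonoidHom.id (T : Subgroup X))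
  have hV : V z = 1 := by
    have hle : commutator X ≤ V.ker := by
      rw [commutator_def, Subgroup.commutator_le]
      intro a _ b _
      rw [MonoidHom.mem_ker, map_commutatorElement, commutatorElement_eq_one_iff_commute.mpr]
      exact mul_comm _ _
    exact hle hzc
  have hkey : ∀ (k : ℕ) (g₀ : X), g₀⁻¹ * z ^ k * g₀ ∈ (T : Subgroup X) →
      g₀⁻¹ * z ^ k * g₀ = z ^ k := by
    intro k g₀ _
    have : z ^ k ∈ Subgroup.center X := Subgroup.pow_mem _ hz k
    rw [Subgroup.mem_center_iff] at this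
    rw [mul_assoc, ← this g₀, inv_mul_cancel_left]
  have h1 := MonoidHom.transfer_eq_pow (MonoidHom.id (T : Subgroup X)) z hkey
  have h2 : z ^ (T : Subgroup X).index = 1 := by
    have h4 : V z = _ := h1
    rw [hV] at h4
    have := congrArg Subtype.val h4
    simpa using this.symm
  have hinj := (T.2.powEquiv' T.not_dvd_index).injective
  have h5 : (⟨z, hzT⟩ : (T : Subgroup X)) = 1 := by
    apply hinj
    apply Subtype.ext
    simpa using h2
  exact congrArg Subtype.val h5

/-- Two nontrivial subgroups of a cyclic `p`-group meet nontrivially. -/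
theorem exists_common_of_cyclic {Q : Type*} [Group Q] [Finite Q] [IsCyclic Q] (hQ : IsPGroup p Q)
    (A B : Subgroup Q) (hA : A ≠ ⊥) (hB : B ≠ ⊥) : A ⊓ B ≠ ⊥ := by
  have hpp := hp.out
  have key : ∀ C : Subgroup Q, C ≠ ⊥ → ∃ z ∈ C, orderOf z = p := by
    intro C hC
    obtain ⟨x, hx, hx1⟩ := (Subgroup.ne_bot_iff_exists_ne_one.mp hC |> fun ⟨x, hx⟩ =>
      (⟨(x : Q), x.2, fun h => hx (Subtype.ext h)⟩ : ∃ y ∈ C, y ≠ 1))
    have hd : p ∣ orderOf x := by
      obtain ⟨k, hk⟩ := hQ x
      have h1 : orderOf x ∣ p ^ k := by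
        rw [orderOf_dvd_iff_pow_eq_one]
        exact hk
      obtain ⟨j, _, hj⟩ := (Nat.dvd_prime_pow hpp).1 h1
      have hj0 : j ≠ 0 := by
        rintro rfl
        apply hx1
        rw [pow_zero] at hj
        exact orderOf_eq_one_iff.mp hj
      rw [hj]
      exact dvd_pow_self p hj0
    refine ⟨x ^ (orderOf x / p), C.pow_mem hx _, ?_⟩
    exact orderOf_pow_orderOf_div (orderOf_pos x).ne' hd
  obtain ⟨a, ha, hao⟩ := key A hA
  obtain ⟨b, hb, hbo⟩ := key B hB
  have hmem : b ∈ Subgroup.zpowers a :=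
    Cfsg.Agent.S4403.mem_zpowers_of_order hpp hao (by rw [← hbo]; exact pow_orderOf_eq_one b)
  have hba : b ∈ A := (Subgroup.zpowers_le.mpr ha) hmem
  intro hbot
  have : b ∈ A ⊓ B := ⟨hba, hb⟩
  rw [hbot, Subgroup.mem_bot] at this
  rw [this, orderOf_one] at hbo
  exact hpp.one_lt.ne hbo

/-- The key lemma about `p'`-extensions of `N`: with `N` below every nontrivial normal subgroup
and an abelian normal `p`-subgroup `Q > N`, any normal `J ≥ N` with `|J : N|` prime to `p` equals
`N`. -/
theorem eq_of_coprime_relIndex (hcore : pPrimeCore p G = ⊥) {N Q J : Subgroup G}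
    [hNn : N.Normal] [hQn : Q.Normal] [hJn : J.Normal]
    (hmin : ∀ K : Subgroup G, K.Normal → K ≠ ⊥ → N ≤ K) (hNQ : N ≤ Q)
    (hQab : ∀ a ∈ Q, ∀ b ∈ Q, a * b = b * a) (hQp : IsPGroup p Q) (hQN : ¬ Q ≤ N)
    (hNJ : N ≤ J) (hJc : (N.relIndex J).Coprime p) : J = N := by
  classical
  have hpp := hp.out
  set N' : Subgroup J := N.subgroupOf J with hN'
  have hN'n : N'.Normal := inferInstance
  have hNp : IsPGroup p N := hQp.to_le hNQ
  have hN'p : IsPGroup p N' := by
    exact IsPGroup.of_injective hNp (Subgroup.subgroupOfEquivOfLe hNJ).toMonoidHom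
      (Subgroup.subgroupOfEquivOfLe hNJ).injective
  have hidx : N'.index = N.relIndex J := rfl
  have hcop : (Nat.card N').Coprime N'.index := by
    rw [hidx]
    obtain ⟨k, hk⟩ := IsPGroup.iff_card.mp hN'p
    rw [hk]
    exact Nat.Coprime.pow_left _ hJc.symm
  obtain ⟨L', hL'⟩ := Subgroup.exists_right_complement'_of_coprime hcop
  have hL'card : Nat.card L' = N.relIndex J := by
    rw [← hidx]; exact hL'.symm.index_eq_card.symm
  set L : Subgroup G := L'.map J.subtype with hL
  have hLcard : Nat.card L = N.relIndex J := by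
    rw [hL, Nat.card_congr (L'.equivMapOfInjective _ J.subtype_injective).toEquiv.symm, hL'card]
  have hLJ : L ≤ J := Subgroup.map_subtype_le _
  have hLQ : L ≤ Subgroup.normalizer (Q : Set G) := by
    rw [Subgroup.normalizer_eq_top]; exact le_top
  have hcopLQ : (Nat.card L).Coprime (Nat.card Q) := by
    rw [hLcard]
    obtain ⟨k, hk⟩ := IsPGroup.iff_card.mp hQp
    rw [hk]
    exact Nat.Coprime.pow_right _ hJc
  have hsolv : Group.IsSolvable L ∨ Group.IsSolvable Q := by
    right
    have : Group.IsNilpotent Q := hQp.isNilpotent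
    infer_instance
  have hdec := Cfsg.Agent.Lib.Glauberman.commutator_sup_inf_centralizer hLQ hcopLQ hsolv
  -- `Q ∩ J ≤ N`
  have hQJ : Q ⊓ J ≤ N := by
    rintro u ⟨huQ, huJ⟩
    have hm : (⟨u, huJ⟩ : J) ∈ N' := by
      obtain ⟨k, hk⟩ := hQp ⟨u, huQ⟩
      have hord : ∃ j, orderOf u = p ^ j := by
        have h1 : orderOf u ∣ p ^ k := by
          rw [orderOf_dvd_iff_pow_eq_one]
          have := congrArg Subtype.val hk
          simpa using this
        obtain ⟨j, _, hj⟩ := (Nat.dvd_prime_pow hpp).1 h1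
        exact ⟨j, hj⟩
      obtain ⟨j, hj⟩ := hord
      have h2 := Subgroup.pow_index_mem N' (⟨u, huJ⟩ : J)
      apply Cfsg.Agent.Lib.Tate.mem_of_pow_mem_of_coprime (n := N'.index) _ h2
      have : orderOf (⟨u, huJ⟩ : J) = orderOf u := Subgroup.orderOf_mk u huJ
      rw [this, hj, hidx]
      exact Nat.Coprime.pow_right _ hJc
    simpa [hN', Subgroup.mem_subgroupOf] using hm
  have hcomm : ⁅Q, L⁆ ≤ N := by
    refine le_trans ?_ hQJ
    rw [Subgroup.commutator_le]
    intro q hq l hl
    constructor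
    · have h1 : l * q⁻¹ * l⁻¹ ∈ Q := hQn.conj_mem _ (Q.inv_mem hq) l
      rw [commutatorElement_def]
      exact Q.mul_mem hq h1 |> fun h => by simpa [mul_assoc] using h
    · have h1 : q * l * q⁻¹ ∈ J := hJn.conj_mem _ (hLJ hl) q
      rw [commutatorElement_def]
      exact J.mul_mem h1 (J.inv_mem (hLJ hl))
  have hCne : Q ⊓ Subgroup.centralizer (L : Set G) ≠ ⊥ := by
    intro hb
    rw [hb, sup_bot_eq] at hdec
    apply hQN
    rw [← hdec]
    exact hcomm
  -- `J = N L`
  have hJdec : ∀ j ∈ J, ∃ n ∈ N, ∃ l ∈ L, j = n * l := by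
    intro j hj
    obtain ⟨⟨n, l⟩, hnl⟩ := hL'.2 (⟨j, hj⟩ : J)
    refine ⟨n.1.1, ?_, l.1.1, ⟨l.1, l.2, rfl⟩, ?_⟩
    · exact Subgroup.mem_subgroupOf.mp n.2
    · have := congrArg Subtype.val hnl
      simpa using this.symm
  -- `C_Q(J)` is normal and nontrivial
  set A : Subgroup G := Q ⊓ Subgroup.centralizer (J : Set G) with hA
  have hAn : A.Normal := by
    have : (Subgroup.centralizer (J : Set G)).Normal := Subgroup.normal_centralizer
    exact Subgroup.normal_inf_normal _ _
  have hCA : Q ⊓ Subgroup.centralizer (L : Set G) ≤ A := by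
    rintro a ⟨haQ, haL⟩
    refine ⟨haQ, Subgroup.mem_centralizer_iff.mpr ?_⟩
    intro j hj
    obtain ⟨n, hn, l, hl, rfl⟩ := hJdec j hj
    have h1 : a * n = n * a := hQab a haQ n (hNQ hn)
    have h2 : l * a = a * l := (Subgroup.mem_centralizer_iff.mp haL) l hl
    rw [mul_assoc, h2, ← mul_assoc, ← h1, mul_assoc]
  have hAne : A ≠ ⊥ := by
    intro hb
    apply hCne
    rw [eq_bot_iff, ← hb]
    exact hCA
  have hNA : N ≤ A := hmin A hAn hAne
  -- `L'` normal in `J`, hence trivial
  have hL'n : L'.Normal := by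
    constructor
    intro l hl j
    obtain ⟨n, hn, l₀, hl₀, hj⟩ := hJdec j j.2
    have hnc : ∀ x ∈ J, n * x = x * n := fun x hx =>
      ((Subgroup.mem_centralizer_iff.mp (hNA hn).2) x hx).symm
    have hjj : (j : G) * (l : G) * (j : G)⁻¹ = l₀ * l * l₀⁻¹ := by
      rw [hj, mul_inv_rev]
      have := hnc _ (J.mul_mem (hLJ hl₀) l.2)
      calc n * l₀ * (l : G) * (l₀⁻¹ * n⁻¹) = (n * (l₀ * l)) * (l₀⁻¹ * n⁻¹) := by group
        _ = ((l₀ * l) * n) * (l₀⁻¹ * n⁻¹) := by rw [this]
        _ = (l₀ * l) * (n * l₀⁻¹) * n⁻¹ := by group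
        _ = (l₀ * l) * (l₀⁻¹ * n) * n⁻¹ := by rw [hnc _ (J.inv_mem (hLJ hl₀))]
        _ = l₀ * l * l₀⁻¹ := by group
    obtain ⟨l₂, hl₂, hl₂e⟩ := hl₀
    have hmem : l₂ * l * l₂⁻¹ ∈ L' := L'.mul_mem (L'.mul_mem hl₂ hl) (L'.inv_mem hl₂)
    have heq : j * l * j⁻¹ = l₂ * l * l₂⁻¹ := by
      apply Subtype.ext
      simp only [Subgroup.coe_mul, InvMemClass.coe_inv]
      rw [hjj, ← hl₂e]
      rfl
    rw [heq]
    exact hmem
  have hcorej : pPrimeCore p J = ⊥ :=
    pPrimeCore_eq_bot_of_isSubnormal p hJn.isSubnormal hcore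
  have hL'bot : L' = ⊥ := by
    rw [eq_bot_iff, ← hcorej]
    apply le_pPrimeCore hL'n
    rw [hL'card]
    exact hJc
  apply le_antisymm _ hNJ
  intro j hj
  obtain ⟨n, hn, l, hl, rfl⟩ := hJdec j hj
  have hl1 : l = 1 := by
    obtain ⟨l₂, hl₂, rfl⟩ := hl
    have hl₃ : l₂ ∈ L' := hl₂
    rw [hL'bot, Subgroup.mem_bot] at hl₃
    rw [hl₃]; rfl
  rw [hl1, mul_one]
  exact hn

section Main

variable (P : Sylow p G)

/-- Every normal `p`-subgroup is abelian. -/
theorem normal_pgroup_abelian
    (hfrat : ((frattini ↥(P : Subgroup G)).map (P : Subgroup G).subtype).normalCore = ⊥)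
    {Q : Subgroup G} [hQn : Q.Normal] (hQp : IsPGroup p Q) {a b : G} (ha : a ∈ Q) (hb : b ∈ Q) :
    a * b = b * a := by
  have hQP : Q ≤ (P : Subgroup G) := hQp.le_sylow_of_normal P
  have hc : ⁅Q, Q⁆ ≤ (frattini ↥(P : Subgroup G)).map (P : Subgroup G).subtype := by
    rw [Subgroup.commutator_le]
    intro x hx y hy
    refine ⟨⁅(⟨x, hQP hx⟩ : ↥(P : Subgroup G)), (⟨y, hQP hy⟩ : ↥(P : Subgroup G))⁆, ?_, rfl⟩
    apply Cfsg.Agent.Lib.Frat.commutator_le_frattini P.2
    rw [commutator_def]
    exact Subgroup.commutator_mem_commutator (Subgroup.mem_top _) (Subgroup.mem_top _)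
  have hle : ⁅Q, Q⁆ ≤ ⊥ := by
    rw [← hfrat]; exact Subgroup.normal_le_normalCore.mpr hc
  have h2 := hle (Subgroup.commutator_mem_commutator ha hb)
  rw [Subgroup.mem_bot] at h2
  exact commutatorElement_eq_one_iff_mul_comm.mp h2

/-- Tate: a nontrivial normal subgroup is not inside `Φ(P)`. -/
theorem not_le_of_normal (hcore : pPrimeCore p G = ⊥)
    (hfrat : ((frattini ↥(P : Subgroup G)).map (P : Subgroup G).subtype).normalCore = ⊥)
    {K : Subgroup G} [hKn : K.Normal] (hK : K ≠ ⊥) :
    ¬ K ⊓ (P : Subgroup G) ≤ (frattini (P : Subgroup G)).map (P : Subgroup G).subtype := by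
  intro h
  have hnorm : (P : Subgroup G) ≤ Subgroup.normalizer (K : Set G) := by
    rw [Subgroup.normalizer_eq_top]; exact le_top
  obtain ⟨S, W, hWn, hWc⟩ := npc_of_le_frattini P K hnorm h
  have hcorek : pPrimeCore p K = ⊥ :=
    pPrimeCore_eq_bot_of_isSubnormal p hKn.isSubnormal hcore
  have hidx : (S : Subgroup K).index = Nat.card W := hWc.index_eq_card
  have hWcard : Nat.Coprime (Nat.card W) p := by
    rw [← hidx]
    exact ((Nat.Prime.coprime_iff_not_dvd hp.out).2 S.not_dvd_index).symm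
  have hW : W = ⊥ := by
    rw [eq_bot_iff, ← hcorek]; exact le_pPrimeCore hWn hWcard
  have hS : (S : Subgroup K) = ⊤ := by
    rw [← Subgroup.index_eq_one, hidx, hW]; simp
  have hKp : IsPGroup p K := by
    intro x
    have hx : x ∈ (S : Subgroup K) := by rw [hS]; trivial
    obtain ⟨k, hk⟩ := S.2 ⟨x, hx⟩
    exact ⟨k, by simpa using congrArg Subtype.val hk⟩
  have hKP : K ≤ (P : Subgroup G) := hKp.le_sylow_of_normal P
  apply hK
  rw [eq_bot_iff, ← hfrat]
  exact Subgroup.normal_le_normalCore.mpr (fun x hx => h ⟨hx, hKP hx⟩)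

/-- A nontrivial commutator in a non-abelian Sylow subgroup. -/
theorem exists_commutator_ne_one (hna : ¬ IsMulCommutative (P : Subgroup G)) :
    ∃ a ∈ (P : Subgroup G), ∃ b ∈ (P : Subgroup G), a * b * a⁻¹ * b⁻¹ ≠ 1 := by
  by_contra hall
  push Not at hall
  apply hna
  refine ⟨⟨fun x y => Subtype.ext ?_⟩⟩
  have := hall x x.2 y y.2
  have h2 : (x : G) * y = y * x := by
    have h3 : (x : G) * y * (x : G)⁻¹ * (y : G)⁻¹ = ⁅(x : G), (y : G)⁆ := rfl
    rw [h3] at this
    exact commutatorElement_eq_one_iff_mul_comm.mp this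
  simpa using h2

/-- There is a smallest nontrivial normal subgroup. -/
theorem exists_smallest (hna : ¬ IsMulCommutative (P : Subgroup G))
    (hgen : (frattini (P : Subgroup G)).index = p ^ 2)
    (hcore : pPrimeCore p G = ⊥)
    (hfrat : ((frattini ↥(P : Subgroup G)).map (P : Subgroup G).subtype).normalCore = ⊥) :
    ∃ N : Subgroup G, N.Normal ∧ N ≠ ⊥ ∧ ∀ K : Subgroup G, K.Normal → K ≠ ⊥ → N ≤ K := by
  obtain ⟨a, ha, b, hb, hab⟩ := exists_commutator_ne_one P hna
  refine ⟨sInf {K : Subgroup G | K.Normal ∧ K ≠ ⊥}, ?_, ?_, fun K h1 h2 => sInf_le ⟨h1, h2⟩⟩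
  · constructor
    intro n hn g
    rw [Subgroup.mem_sInf] at hn ⊢
    intro K hK
    have := hK.1
    exact hK.1.conj_mem n (hn K hK) g
  · intro hbot
    apply hab
    have : a * b * a⁻¹ * b⁻¹ ∈ sInf {K : Subgroup G | K.Normal ∧ K ≠ ⊥} := by
      rw [Subgroup.mem_sInf]
      intro K hK
      have := hK.1
      have hnorm : (P : Subgroup G) ≤ Subgroup.normalizer (K : Set G) := by
        rw [Subgroup.normalizer_eq_top]; exact le_top
      exact commutator_mem P hgen hnorm (not_le_of_normal P hcore hfrat hK.2) ha hb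
    rw [hbot, Subgroup.mem_bot] at this
    exact this

/-- With `N` abelian, `O_p(G) ≤ N`. -/
theorem pCore_le_of_abelian (hna : ¬ IsMulCommutative (P : Subgroup G))
    (hgen : (frattini (P : Subgroup G)).index = p ^ 2)
    (hcore : pPrimeCore p G = ⊥)
    (hfrat : ((frattini ↥(P : Subgroup G)).map (P : Subgroup G).subtype).normalCore = ⊥)
    {N : Subgroup G} [hNn : N.Normal] (hN : N ≠ ⊥)
    (hmin : ∀ K : Subgroup G, K.Normal → K ≠ ⊥ → N ≤ K) : pCore p G ≤ N := by
  classical
  by_contra hQN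
  set Q : Subgroup G := pCore p G with hQ
  have hQn : Q.Normal := Subgroup.normal_of_characteristic _
  have hQp : IsPGroup p Q := isPGroup_pCore p
  have hQab : ∀ a ∈ Q, ∀ b ∈ Q, a * b = b * a := fun a ha b hb =>
    normal_pgroup_abelian P hfrat hQp ha hb
  have hQne : Q ≠ ⊥ := by
    rintro hb
    apply hQN
    rw [hb]; exact bot_le
  have hNQ : N ≤ Q := hmin Q hQn hQne
  have hNP : N ≤ (P : Subgroup G) := hNQ.trans (pCore_le_sylow p P)
  have hQP : Q ≤ (P : Subgroup G) := pCore_le_sylow p P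
  have hcyc : IsCyclic ↥((P : Subgroup G).map (QuotientGroup.mk' N)) :=
    map_cyclic P hgen (not_le_of_normal P hcore hfrat hN)
  set π := QuotientGroup.mk' N with hπ
  have hsurj : Function.Surjective π := QuotientGroup.mk'_surjective N
  set Pb : Subgroup (G ⧸ N) := (P : Subgroup G).map π with hPb
  set Qb : Subgroup (G ⧸ N) := Q.map π with hQb
  have hQbn : Qb.Normal := hQn.map π hsurj
  have hQbP : Qb ≤ Pb := Subgroup.map_mono hQP
  have hPbcomm : ∀ x ∈ Pb, ∀ y ∈ Pb, x * y = y * x := by
    intro x hx y hy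
    have := (IsCyclic.isMulCommutative (α := ↥Pb)).is_comm.comm ⟨x, hx⟩ ⟨y, hy⟩
    simpa using congrArg Subtype.val this
  have hQbne : Qb ≠ ⊥ := by
    intro hb
    apply hQN
    have := (Subgroup.map_eq_bot_iff (f := π) Q).mp hb
    rwa [QuotientGroup.ker_mk'] at this
  set D : Subgroup (G ⧸ N) := Subgroup.centralizer (Qb : Set (G ⧸ N)) with hD
  have hDn : D.Normal := Subgroup.normal_centralizer
  have hPbD : Pb ≤ D := by
    intro x hx
    rw [hD, Subgroup.mem_centralizer_iff]
    intro y hy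
    exact hPbcomm y (hQbP hy) x hx
  let PS : Sylow p (G ⧸ N) := P.mapSurjective hsurj
  have hPS : (PS : Subgroup (G ⧸ N)) = Pb := rfl
  let T : Sylow p D := PS.subtype (by rw [hPS]; exact hPbD)
  have hTmem : ∀ x : D, x ∈ (T : Subgroup D) ↔ (x : G ⧸ N) ∈ Pb := by
    intro x
    rw [Sylow.coe_subtype, Subgroup.mem_subgroupOf]
    exact Iff.rfl
  have hTab : IsMulCommutative (T : Subgroup D) := by
    refine ⟨⟨fun x y => Subtype.ext (Subtype.ext ?_)⟩⟩
    exact hPbcomm _ ((hTmem _).1 x.2) _ ((hTmem _).1 y.2)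
  set C : Subgroup (G ⧸ N) := (commutator D).map D.subtype with hC
  have hCeq : C = ⁅D, D⁆ := by
    rw [hC]
    exact Subgroup.map_subtype_commutator D
  have hCn : C.Normal := by
    rw [hCeq]; infer_instance
  have hC1 : ∀ z ∈ Qb, z ∈ C → z = 1 := by
    intro z hz hzC
    have hzD : z ∈ D := hPbD (hQbP hz)
    have hcen : (⟨z, hzD⟩ : D) ∈ Subgroup.center D := by
      rw [Subgroup.mem_center_iff]
      intro y
      apply Subtype.ext
      exact ((Subgroup.mem_centralizer_iff.mp y.2) z hz).symm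
    have hzT : (⟨z, hzD⟩ : D) ∈ (T : Subgroup D) := (hTmem _).2 (hQbP hz)
    have hzcomm : (⟨z, hzD⟩ : D) ∈ commutator D := by
      obtain ⟨w, hw, hwe⟩ := hzC
      have : w = ⟨z, hzD⟩ := Subtype.ext hwe
      rwa [← this]
    have := central_comm_eq_one p T hTab hcen hzT hzcomm
    simpa using congrArg Subtype.val this
  have hC2 : C ⊓ Pb = ⊥ := by
    by_contra hne
    have hA : C.subgroupOf Pb ≠ ⊥ := by
      intro hb
      apply hne
      rw [eq_bot_iff]
      rintro x ⟨hxC, hxP⟩
      have : (⟨x, hxP⟩ : Pb) ∈ C.subgroupOf Pb := Subgroup.mem_subgroupOf.mpr hxC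
      rw [hb, Subgroup.mem_bot] at this
      simpa using congrArg Subtype.val this
    have hB : Qb.subgroupOf Pb ≠ ⊥ := by
      intro hb
      apply hQbne
      rw [eq_bot_iff]
      intro x hx
      have : (⟨x, hQbP hx⟩ : Pb) ∈ Qb.subgroupOf Pb := Subgroup.mem_subgroupOf.mpr hx
      rw [hb, Subgroup.mem_bot] at this
      simpa using congrArg Subtype.val this
    have hPbp : IsPGroup p Pb := PS.2
    have := exists_common_of_cyclic hPbp _ _ hA hB
    obtain ⟨x, hx⟩ := Subgroup.ne_bot_iff_exists_ne_one.mp this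
    apply hx
    have hx1 : (x : ↥Pb) ∈ C.subgroupOf Pb := x.2.1
    have hx2 : (x : ↥Pb) ∈ Qb.subgroupOf Pb := x.2.2
    have := hC1 _ (Subgroup.mem_subgroupOf.mp hx2) (Subgroup.mem_subgroupOf.mp hx1)
    apply Subtype.ext
    apply Subtype.ext
    simpa using this
  have hC3 : (Nat.card C).Coprime p := by
    by_contra hnc
    have hdvd : p ∣ Nat.card C := by
      by_contra hnd
      exact hnc ((Nat.Prime.coprime_iff_not_dvd hp.out).2 hnd).symm
    obtain ⟨c, hc⟩ := exists_prime_orderOf_dvd_card' p hdvd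
    have hc1 : ((c : C) : G ⧸ N) ^ p = 1 := by
      have : c ^ p = 1 := by rw [← hc]; exact pow_orderOf_eq_one c
      simpa using congrArg Subtype.val this
    have hzp : IsPGroup p (Subgroup.zpowers ((c : C) : G ⧸ N)) := by
      apply IsPGroup.of_card (n := 1)
      rw [Nat.card_zpowers, pow_one, Subgroup.orderOf_coe, hc]
    obtain ⟨R, hR⟩ := hzp.exists_le_sylow
    obtain ⟨g, hg⟩ := MulAction.exists_smul_eq (G ⧸ N) R PS
    have hmem : ((c : C) : G ⧸ N) ∈ (R : Subgroup (G ⧸ N)) := hR (Subgroup.mem_zpowers _)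
    have hmem2 : g * ((c : C) : G ⧸ N) * g⁻¹ ∈ Pb := by
      rw [← hPS, ← hg, Sylow.coe_subgroup_smul]
      exact ⟨_, hmem, rfl⟩
    have hmem3 : g * ((c : C) : G ⧸ N) * g⁻¹ ∈ C := hCn.conj_mem _ c.2 g
    have : g * ((c : C) : G ⧸ N) * g⁻¹ ∈ C ⊓ Pb := ⟨hmem3, hmem2⟩
    rw [hC2, Subgroup.mem_bot] at this
    have h1 : ((c : C) : G ⧸ N) = 1 := by
      have := congrArg (fun y => g⁻¹ * y * g) this
      simpa [mul_assoc] using this
    have h2 : c = 1 := Subtype.ext h1
    rw [h2, orderOf_one] at hc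
    exact hp.out.one_lt.ne hc
  -- the preimage of `C` is `N`
  set J : Subgroup G := C.comap π with hJ
  have hJn : J.Normal := hCn.comap π
  have hNJ : N ≤ J := by
    intro x hx
    show π x ∈ C
    have : π x = 1 := (QuotientGroup.eq_one_iff x).mpr hx
    rw [this]; exact C.one_mem
  have hJrel : N.relIndex J = Nat.card C := by
    have h1 : (⊥ : Subgroup (G ⧸ N)).comap π = N := by
      ext x
      simp only [Subgroup.mem_comap, Subgroup.mem_bot]
      exact QuotientGroup.eq_one_iff x
    have h2 : J.map π = C := Subgroup.map_comap_eq_self_of_surjective hsurj C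
    calc N.relIndex J = ((⊥ : Subgroup (G ⧸ N)).comap π).relIndex J := by rw [h1]
      _ = (⊥ : Subgroup (G ⧸ N)).relIndex (J.map π) := Subgroup.relIndex_comap _ _ _
      _ = Nat.card C := by rw [h2, Subgroup.relIndex_bot_left]
  have hJN : J = N :=
    eq_of_coprime_relIndex hcore hmin hNQ hQab hQp hQN hNJ (by rw [hJrel]; exact hC3)
  have hCbot : C = ⊥ := by
    have h2 : J.map π = C := Subgroup.map_comap_eq_self_of_surjective hsurj C
    rw [← h2, hJN, Subgroup.map_eq_bot_iff, QuotientGroup.ker_mk']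
  have hcommD : commutator D = ⊥ := by
    have := (Subgroup.map_eq_bot_iff_of_injective (commutator D) D.subtype_injective).mp hCbot
    exact this
  have hTn : (T : Subgroup D).Normal := by
    constructor
    intro x hx g
    have h1 : ⁅g, x⁆ ∈ commutator D := by
      rw [commutator_def]
      exact Subgroup.commutator_mem_commutator (Subgroup.mem_top _) (Subgroup.mem_top _)
    rw [hcommD, Subgroup.mem_bot] at h1
    have h2 : g * x = x * g := commutatorElement_eq_one_iff_mul_comm.mp h1
    rw [h2, mul_inv_cancel_right]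
    exact hx
  have hTc : (T : Subgroup D).Characteristic := Sylow.characteristic_of_normal T hTn
  have hPbn : Pb.Normal := by
    have h1 : ((T : Subgroup D).map D.subtype).Normal :=
      ConjAct.normal_of_characteristic_of_normal
    have h2 : (T : Subgroup D).map D.subtype = Pb := by
      rw [Sylow.coe_subtype, Subgroup.subgroupOf_map_subtype, hPS]
      exact inf_eq_left.mpr hPbD
    rwa [h2] at h1
  have hPn : (P : Subgroup G).Normal := by
    have h1 : Pb.comap π = (P : Subgroup G) := by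
      apply Subgroup.comap_map_eq_self
      rw [QuotientGroup.ker_mk']
      exact hNP
    rw [← h1]
    exact hPbn.comap π
  apply hna
  refine ⟨⟨fun x y => Subtype.ext ?_⟩⟩
  exact normal_pgroup_abelian P hfrat (Q := (P : Subgroup G)) P.2 x.2 y.2

/-- A subgroup containing a component does not have a normal `p`-complement. -/
theorem comp_not_npc (hcore : pPrimeCore p G = ⊥) {K M : Subgroup G} (hK : IsComponent K)
    (hKM : K ≤ M) : ¬ HasNormalPComplement p M := by
  rintro ⟨S, W, hWn, hWc⟩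
  -- `M / W` is a `p`-group
  have hMW : IsPGroup p (M ⧸ W) := by
    apply IsPGroup.of_surjective S.2
      ((QuotientGroup.mk' W).comp (S : Subgroup M).subtype)
    intro y
    obtain ⟨y, rfl⟩ := QuotientGroup.mk_surjective y
    obtain ⟨⟨w, s⟩, hws⟩ := hWc.2 y
    refine ⟨s, ?_⟩
    show ((s : M) : M ⧸ W) = (y : M ⧸ W)
    rw [← hws]
    symm
    rw [QuotientGroup.eq]
    simp only [mul_inv_rev]
    have h3 : ((s : M))⁻¹ * (w : M)⁻¹ * (s : M) ∈ W := by
      have := hWn.conj_mem _ (W.inv_mem w.2) ((s : M)⁻¹)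
      simpa using this
    simpa [mul_assoc] using h3
  -- `K` maps trivially to `M / W`
  let f : K →* M ⧸ W := (QuotientGroup.mk' W).comp (Subgroup.inclusion hKM)
  have hfr : f.range = ⊥ := by
    by_contra hne
    have hnt : Nontrivial f.range := (Subgroup.bot_or_nontrivial _).resolve_left hne
    have hp1 : Group.IsPerfect f.range := by
      have h1 : commutator K = ⊤ := qs_commutator hK.2
      refine ⟨?_⟩
      rw [eq_top_iff]
      rintro ⟨_, x, rfl⟩ _
      have hx : x ∈ commutator K := by rw [h1]; trivial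
      have h2 : (commutator K).map f.rangeRestrict ≤ commutator f.range := by
        rw [commutator_def, commutator_def, Subgroup.map_commutator]
        apply Subgroup.commutator_mono <;> exact le_top
      exact h2 ⟨x, hx, rfl⟩
    have hsol : Group.IsSolvable f.range := by
      have hpg : IsPGroup p f.range := hMW.to_subgroup _
      have : Group.IsNilpotent f.range := hpg.isNilpotent
      infer_instance
    exact Group.IsPerfect.not_isSolvable _ hsol
  have hKW : ∀ a : K, (Subgroup.inclusion hKM a) ∈ W := by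
    intro a
    have : f a ∈ f.range := ⟨a, rfl⟩
    rw [hfr, Subgroup.mem_bot] at this
    exact (QuotientGroup.eq_one_iff _).mp this
  -- hence `K` has order prime to `p`
  have hWcop : (Nat.card W).Coprime p := by
    have hidx : (S : Subgroup M).index = Nat.card W := hWc.index_eq_card
    rw [← hidx]
    exact ((Nat.Prime.coprime_iff_not_dvd hp.out).2 S.not_dvd_index).symm
  have hKcop : (Nat.card K).Coprime p := by
    let g : K →* W := ((Subgroup.inclusion hKM).codRestrict W hKW)
    have hg : Function.Injective g := by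
      intro a b hab
      have := congrArg Subtype.val hab
      have h2 := congrArg Subtype.val this
      exact Subtype.ext h2
    have hdvd : Nat.card K ∣ Nat.card W := Subgroup.card_dvd_of_injective g hg
    exact Nat.Coprime.coprime_dvd_left hdvd hWcop
  have htop : pPrimeCore p K = ⊤ := by
    rw [eq_top_iff]
    have : (⊤ : Subgroup K) ≤ pPrimeCore p K := by
      apply le_pPrimeCore inferInstance
      rw [Nat.card_congr (Subgroup.topEquiv (G := K)).toEquiv]
      exact hKcop
    exact this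
  have hle := map_pPrimeCore_le_of_isSubnormal p hK.1
  rw [htop, hcore, map_subtype_top] at hle
  exact comp_ne_bot hK (le_bot_iff.mp hle)

/-- The structural conclusion when `N` is abelian: no component. -/
theorem no_component_of_abelian (hgen : (frattini (P : Subgroup G)).index = p ^ 2)
    (hcore : pPrimeCore p G = ⊥)
    (hfrat : ((frattini ↥(P : Subgroup G)).map (P : Subgroup G).subtype).normalCore = ⊥)
    {N : Subgroup G} [hNn : N.Normal] (hN : N ≠ ⊥) (hNab : ∀ a ∈ N, ∀ b ∈ N, a * b = b * a)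
    (hNp : IsPGroup p N)
    (hmin : ∀ K : Subgroup G, K.Normal → K ≠ ⊥ → N ≤ K) {L : Subgroup G} (hL : IsComponent L) :
    False := by
  have hLN : ⁅L, N⁆ = ⊥ := by
    rcases comp_le_or_commute hL hNn.isSubnormal with h | h
    · exfalso
      apply comp_not_comm hL
      refine ⟨⟨fun x y => Subtype.ext ?_⟩⟩
      exact hNab _ (h x.2) _ (h y.2)
    · exact h
  set E : Subgroup G := Subgroup.normalClosure (L : Set G) with hE
  have hEn : E.Normal := Subgroup.normalClosure_normal
  have hLE : L ≤ E := Subgroup.subset_normalClosure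
  have hEne : E ≠ ⊥ := by
    intro hb
    apply comp_ne_bot hL
    rw [eq_bot_iff, ← hb]
    exact hLE
  have hNE : N ≤ E := hmin E hEn hEne
  have hCn : (Subgroup.centralizer (N : Set G)).Normal := Subgroup.normal_centralizer
  have hEC : E ≤ Subgroup.centralizer (N : Set G) :=
    Subgroup.normalClosure_le_normal (Subgroup.commutator_eq_bot_iff_le_centralizer.mp hLN)
  -- `E` is perfect
  have hperf : commutator E = ⊤ := by
    apply eq_top_of_map_subtype_eq
    rw [Subgroup.map_subtype_commutator]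
    apply le_antisymm (Subgroup.commutator_le_left _ _ |>.trans le_rfl)
    apply Subgroup.normalClosure_le_normal
    intro x hx
    have h1 : L ≤ ⁅E, E⁆ := by
      conv_lhs => rw [← comp_perfect hL]
      exact Subgroup.commutator_mono hLE hLE
    exact h1 hx
  -- `P ∩ C(N)` is abelian
  have hcyc : IsCyclic ↥((P : Subgroup G).map (QuotientGroup.mk' N)) :=
    map_cyclic P hgen (not_le_of_normal P hcore hfrat hN)
  have hPCab : ∀ a ∈ (P : Subgroup G) ⊓ Subgroup.centralizer (N : Set G),
      ∀ b ∈ (P : Subgroup G) ⊓ Subgroup.centralizer (N : Set G), a * b = b * a := by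
    intro a ha b hb
    set A : Subgroup G := (P : Subgroup G) ⊓ Subgroup.centralizer (N : Set G) with hA
    let φ : A →* ↥((P : Subgroup G).map (QuotientGroup.mk' N)) :=
      ((QuotientGroup.mk' N).comp A.subtype).codRestrict _
        (fun x => ⟨x, x.2.1, rfl⟩)
    have hker : φ.ker ≤ Subgroup.center A := by
      intro x hx
      have hxN : (x : G) ∈ N := by
        have h1 := congrArg Subtype.val (MonoidHom.mem_ker.mp hx)
        exact (QuotientGroup.eq_one_iff _).mp h1
      rw [Subgroup.mem_center_iff]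
      intro y
      apply Subtype.ext
      exact ((Subgroup.mem_centralizer_iff.mp y.2.2) _ hxN).symm
    have := (φ.isMulCommutative_of_isCyclic_of_ker_le_center hker).is_comm.comm
      (⟨a, ha⟩ : A) (⟨b, hb⟩ : A)
    simpa using congrArg Subtype.val this
  -- a Sylow subgroup of `E`
  obtain ⟨T⟩ : Nonempty (Sylow p E) := inferInstance
  have hTab : IsMulCommutative (T : Subgroup E) := by
    have hTp : IsPGroup p ((T : Subgroup E).map E.subtype) := T.2.map _
    obtain ⟨R, hR⟩ := hTp.exists_le_sylow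
    obtain ⟨g, hg⟩ := MulAction.exists_smul_eq G R P
    refine ⟨⟨fun x y => Subtype.ext (Subtype.ext ?_)⟩⟩
    have key : ∀ z : (T : Subgroup E), g * ((z : E) : G) * g⁻¹ ∈
        (P : Subgroup G) ⊓ Subgroup.centralizer (N : Set G) := by
      intro z
      refine ⟨?_, hCn.conj_mem _ (hEC (z : E).2) g⟩
      rw [← hg, Sylow.coe_subgroup_smul]
      exact ⟨_, hR ⟨_, z.2, rfl⟩, rfl⟩
    have h3 := hPCab _ (key x) _ (key y)
    have h4 : g * (((x : E) : G) * ((y : E) : G)) * g⁻¹ =
        g * (((y : E) : G) * ((x : E) : G)) * g⁻¹ := by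
      calc _ = (g * ((x : E) : G) * g⁻¹) * (g * ((y : E) : G) * g⁻¹) := by group
        _ = (g * ((y : E) : G) * g⁻¹) * (g * ((x : E) : G) * g⁻¹) := h3
        _ = _ := by group
    simpa using h4
  -- the central elements of `N`
  obtain ⟨z, hz⟩ := Subgroup.ne_bot_iff_exists_ne_one.mp hN
  have hzE : (z : G) ∈ E := hNE z.2
  have hzcen : (⟨z, hzE⟩ : E) ∈ Subgroup.center E := by
    rw [Subgroup.mem_center_iff]
    intro y
    apply Subtype.ext
    exact ((Subgroup.mem_centralizer_iff.mp (hEC y.2)) _ z.2).symm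
  have hzT : (⟨z, hzE⟩ : E) ∈ (T : Subgroup E) := by
    have hN' : (N.subgroupOf E).Normal := inferInstance
    have hNp' : IsPGroup p (N.subgroupOf E) :=
      IsPGroup.of_injective hNp (Subgroup.subgroupOfEquivOfLe hNE).toMonoidHom
        (Subgroup.subgroupOfEquivOfLe hNE).injective
    exact (hNp'.le_sylow_of_normal T) (Subgroup.mem_subgroupOf.mpr z.2)
  have := Cfsg.Agent.S4403.central_eq_one p hperf T hTab hzcen hzT
  apply hz
  apply Subtype.ext
  simpa using congrArg Subtype.val this

/-- A family of subgroups permuted by `P` has a `P`-invariant join. -/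
theorem le_normalizer_sSup (O : Set (Subgroup G))
    (hO : ∀ x ∈ (P : Subgroup G), ∀ M ∈ O, M.map (MulAut.conj x).toMonoidHom ∈ O) :
    (P : Subgroup G) ≤ Subgroup.normalizer ((sSup O : Subgroup G) : Set G) := by
  have key : ∀ x ∈ (P : Subgroup G), ∀ h ∈ sSup O, x * h * x⁻¹ ∈ sSup O := by
    intro x hx h hh
    have hle : sSup O ≤ (sSup O).comap (MulAut.conj x).toMonoidHom := by
      apply sSup_le
      intro M hM
      rw [← Subgroup.map_le_iff_le_comap]
      exact le_sSup (hO x hx M hM)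
    exact hle hh
  intro x hx
  rw [Subgroup.mem_normalizer_iff]
  intro h
  refine ⟨key x hx h, fun hm => ?_⟩
  have := key x⁻¹ (P.inv_mem hx) _ hm
  simpa [mul_assoc] using this

/-- Transitivity of `P` on the components when `F(G) = 1`. -/
theorem transitive_on_components (hna : ¬ IsMulCommutative (P : Subgroup G))
    (hgen : (frattini (P : Subgroup G)).index = p ^ 2)
    (hcore : pPrimeCore p G = ⊥) (hfit : fittingSubgroup G = ⊥)
    {K L : Subgroup G} (hK : IsComponent K) (hL : IsComponent L) :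
    ∃ x ∈ (P : Subgroup G), L = K.map (MulAut.conj x).toMonoidHom := by
  by_contra hno
  set O₁ : Set (Subgroup G) := {M | ∃ x ∈ (P : Subgroup G), M = K.map (MulAut.conj x).toMonoidHom}
    with hO₁
  set O₂ : Set (Subgroup G) := {M | IsComponent M ∧ M ∉ O₁} with hO₂
  have hcomp₁ : ∀ M ∈ O₁, IsComponent M := by
    rintro M ⟨x, _, rfl⟩
    exact comp_conj hK x
  have hKO₁ : K ∈ O₁ := ⟨1, P.one_mem, by
    ext y; simp [Subgroup.mem_map]⟩
  have hinv₁ : ∀ x ∈ (P : Subgroup G), ∀ M ∈ O₁, M.map (MulAut.conj x).toMonoidHom ∈ O₁ := by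
    rintro x hx M ⟨y, hy, rfl⟩
    refine ⟨x * y, P.mul_mem hx hy, ?_⟩
    rw [Subgroup.map_map]
    congr 1
    ext z
    simp [mul_assoc]
  have hinv₂ : ∀ x ∈ (P : Subgroup G), ∀ M ∈ O₂, M.map (MulAut.conj x).toMonoidHom ∈ O₂ := by
    rintro x hx M ⟨hM, hMn⟩
    refine ⟨comp_conj hM x, fun hc => hMn ?_⟩
    have := hinv₁ x⁻¹ (P.inv_mem hx) _ hc
    convert this using 1
    rw [Subgroup.map_map]
    ext z
    simp only [Subgroup.mem_map, MonoidHom.comp_apply, MulEquiv.coe_toMonoidHom, MulAut.conj_apply]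
    constructor
    · intro h
      exact ⟨z, h, by group⟩
    · rintro ⟨y, hy, rfl⟩
      have : x⁻¹ * (x * y * x⁻¹) * x⁻¹⁻¹ = y := by group
      rwa [this]
  have hLO₂ : L ∈ O₂ := ⟨hL, by
    rintro ⟨x, hx, hxe⟩
    exact hno ⟨x, hx, hxe⟩⟩
  set N₁ : Subgroup G := sSup O₁ with hN₁
  set N₂ : Subgroup G := sSup O₂ with hN₂
  have hn₁ := le_normalizer_sSup P O₁ hinv₁
  have hn₂ := le_normalizer_sSup P O₂ hinv₂
  have hnot₁ : ¬ N₁ ⊓ (P : Subgroup G) ≤
      (frattini (P : Subgroup G)).map (P : Subgroup G).subtype := fun h =>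
    comp_not_npc hcore hK (le_sSup hKO₁) (npc_of_le_frattini P N₁ hn₁ h)
  have hnot₂ : ¬ N₂ ⊓ (P : Subgroup G) ≤
      (frattini (P : Subgroup G)).map (P : Subgroup G).subtype := fun h =>
    comp_not_npc hcore hL (le_sSup hLO₂) (npc_of_le_frattini P N₂ hn₂ h)
  obtain ⟨a, ha, b, hb, hab⟩ := exists_commutator_ne_one P hna
  have hc₁ := commutator_mem P hgen hn₁ hnot₁ ha hb
  have hc₂ := commutator_mem P hgen hn₂ hnot₂ ha hb
  set c : G := a * b * a⁻¹ * b⁻¹ with hc
  have hcomm : ∀ M₁ ∈ O₁, ∀ M₂ ∈ O₂, M₁ ≤ Subgroup.centralizer (M₂ : Set G) := by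
    intro M₁ h₁ M₂ h₂
    apply comp_le_centralizer_of_ne (hcomp₁ _ h₁) h₂.1
    rintro rfl
    exact h₂.2 h₁
  have hcen : ∀ M : Subgroup G, IsComponent M → c ∈ Subgroup.centralizer (M : Set G) := by
    intro M hM
    by_cases hMO : M ∈ O₁
    · have hle : N₂ ≤ Subgroup.centralizer (M : Set G) := by
        apply sSup_le
        intro M₂ h₂
        have := hcomm M hMO M₂ h₂
        rw [← Subgroup.commutator_eq_bot_iff_le_centralizer] at this ⊢
        rw [Subgroup.commutator_comm]
        exact this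
      exact hle hc₂
    · have hle : N₁ ≤ Subgroup.centralizer (M : Set G) := by
        apply sSup_le
        intro M₁ h₁
        exact hcomm M₁ h₁ M ⟨hM, hMO⟩
      exact hle hc₁
  have hclay : c ∈ layer G := by
    have : N₁ ≤ layer G := sSup_le fun M hM => comp_le_layer (hcomp₁ M hM)
    exact this hc₁
  have hccen : c ∈ Subgroup.centralizer (layer G : Set G) := by
    have hle : layer G ≤ Subgroup.centralizer ({c} : Set G) := by
      apply sSup_le
      intro M hM
      intro y hy
      rw [Subgroup.mem_centralizer_singleton_iff]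
      exact (Subgroup.mem_centralizer_iff.mp (hcen M hM)) y hy
    rw [Subgroup.mem_centralizer_iff]
    intro y hy
    exact Subgroup.mem_centralizer_singleton_iff.mp (hle hy)
  set Z : Subgroup G := layer G ⊓ Subgroup.centralizer (layer G : Set G) with hZ
  have hZn : Z.Normal := by
    have : (Subgroup.centralizer (layer G : Set G)).Normal := Subgroup.normal_centralizer
    exact Subgroup.normal_inf_normal _ _
  have hZab : IsMulCommutative Z := by
    refine ⟨⟨fun x y => Subtype.ext ?_⟩⟩
    exact (Subgroup.mem_centralizer_iff.mp y.2.2) _ x.2.1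
  have hZnil : Group.IsNilpotent Z := by
    letI : CommGroup Z := { (inferInstance : Group Z) with mul_comm := hZab.is_comm.comm }
    exact CommGroup.isNilpotent
  have hZle : Z ≤ fittingSubgroup G := le_fittingSubgroup hZn hZnil
  rw [hfit] at hZle
  have : c ∈ Z := ⟨hclay, hccen⟩
  have h1 := hZle this
  rw [Subgroup.mem_bot] at h1
  exact hab h1

end Main

end Cfsg.Agent.H28.TwoGen
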